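import Cfsg.Agent.Co23.Kit

/-! Permutation models of `W(E₆)` and `Sp₆(2)` with transvections as letters. -/

set_option autoImplicit false
set_option maxRecDepth 100000
set_option linter.unusedSimpArgs false
set_option linter.unusedSectionVars false
set_option linter.unusedVariables false
set_option maxHeartbeats 1000000

namespace Cfsg.Lib.F43

open Subgroup Cfsg.Lib.Spor Cfsg.Lib.Spor.Bulk Cfsg.Lib.Spor.PK Cfsg.Lib.Spor.WF

variable {G : Type*} [Group G] {a1 b1 a2 b2 a3 b3 x c d : G}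

/-- letters -/
def gNW (a1 b1 a2 b2 a3 b3 x : G) : ℕ → G := lf [1, a1, b1, a2, b2, a3, b3, x]

theorem gNW_0 : gNW a1 b1 a2 b2 a3 b3 x 0 = 1 := rfl
theorem gNW_1 : gNW a1 b1 a2 b2 a3 b3 x 1 = a1 := rfl
theorem gNW_2 : gNW a1 b1 a2 b2 a3 b3 x 2 = b1 := rfl
theorem gNW_3 : gNW a1 b1 a2 b2 a3 b3 x 3 = a2 := rfl
theorem gNW_4 : gNW a1 b1 a2 b2 a3 b3 x 4 = b2 := rfl
theorem gNW_5 : gNW a1 b1 a2 b2 a3 b3 x 5 = a3 := rfl
theorem gNW_6 : gNW a1 b1 a2 b2 a3 b3 x 6 = b3 := rfl
theorem gNW_7 : gNW a1 b1 a2 b2 a3 b3 x 7 = x := rfl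

@[reducible] def NW : PM where
  w := 9
  n := 28
  cs := [3441222883275887445037996700432635969218631969475979285799306514211449344512,
    3437495940231959672776558068221081595330224127172510504820873100975163052544,
    3441218515764516519802632031388171856345555355399749408650524018097305686528,
    3439235176536769262654327030002890035407709541229448527534741284276499124736,
    638064779234493309650850511557304777141440566819464996792588524227274584064,
    2169092996631748356607528691950536005341305279495100729644295752391029428736,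
    133676424948159673130798717350476384570636468746733777289259844598523094528,
    1533028044784936743700081259140891588430207680787511580617165176579037860352]
  SW := [([[1],[2],[3],[4],[5],[6],[7]],
    [⟨2, [1344, 769, 900, 1476, 452, 1734, 1029, 389, 1605, 1094, 323, 69, 518, 1222, 835, 642, 1541, 1667, 1409,
    707, 578, 1285, 966, 1154, 195, 258], [[6, 3], [1, 6, 3, 5, 6, 2, 3, 1, 6, 5, 4, 0, 1, 4, 5, 6, 5, 4, 1]]⟩,
     ⟨3, [1280, 769, 1408, 1665, 320, 897, 1729, 512, 961, 641, 1537, 1024, 64, 1345, 1153], [[1, 1, 1, 1, 1, 0],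
    [0, 1, 0, 1, 1, 0, 1, 1]]⟩,
     ⟨1, [1728, 961, 640, 1024, 1280, 1408, 1665, 896, 1344], [[0, 1, 0, 0, 0], [1, 0, 0, 1, 0]]⟩,
     ⟨4, [449], [[0], [1, 1]]⟩,
     ⟨16, [640, 1409], [[1, 0]]⟩,
     ⟨10, [1408], []⟩])]

instance : NeZero NW.n := ⟨by decide⟩

theorem NW_ok : NW.ok = true := by decide +kernel

theorem NW_subs : NW.subsOK = true := by decide +kernel

theorem gNW_s0 : sub (gNW a1 b1 a2 b2 a3 b3 x) (NW.W 0) = gen [a1, b1, a2, b2, a3, b3, x] := by
  change gen (List.map (wv _) [[1],[2],[3],[4],[5],[6],[7]]) = _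
  simp only [List.map_cons, List.map_nil, wv_cons, wv_nil, one_mul, gNW_1, gNW_2, gNW_3, gNW_4, gNW_5, gNW_6, gNW_7]

/-- letters -/
def gNS (a1 b1 a2 b2 a3 b3 x c d : G) : ℕ → G := lf [1, a1, b1, a2, b2, a3, b3, x, c, d]

theorem gNS_0 : gNS a1 b1 a2 b2 a3 b3 x c d 0 = 1 := rfl
theorem gNS_1 : gNS a1 b1 a2 b2 a3 b3 x c d 1 = a1 := rfl
theorem gNS_2 : gNS a1 b1 a2 b2 a3 b3 x c d 2 = b1 := rfl
theorem gNS_3 : gNS a1 b1 a2 b2 a3 b3 x c d 3 = a2 := rfl
theorem gNS_4 : gNS a1 b1 a2 b2 a3 b3 x c d 4 = b2 := rfl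
theorem gNS_5 : gNS a1 b1 a2 b2 a3 b3 x c d 5 = a3 := rfl
theorem gNS_6 : gNS a1 b1 a2 b2 a3 b3 x c d 6 = b3 := rfl
theorem gNS_7 : gNS a1 b1 a2 b2 a3 b3 x c d 7 = x := rfl
theorem gNS_8 : gNS a1 b1 a2 b2 a3 b3 x c d 8 = c := rfl
theorem gNS_9 : gNS a1 b1 a2 b2 a3 b3 x c d 9 = d := rfl

@[reducible] def NS : PM where
  w := 9
  n := 28
  cs := [3441222883275887445037996700432635969218631969475979285799306514211449344512,
    3437495940231959672776558068221081595330224127172510504820873100975163052544,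
    3441218515764516519802632031388171856345555355399749408650524018097305686528,
    3439235176536769262654327030002890035407709541229448527534741284276499124736,
    638064779234493309650850511557304777141440566819464996792588524227274584064,
    2169092996631748356607528691950536005341305279495100729644295752391029428736,
    133676424948159673130798717350476384570636468746733777289259844598523094528,
    1533028044784936743700081259140891588430207680787511580617165176579037860352,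
    3441221427438778265735165721404245448910808087333622240614478679233102610441,
    891485280191316131408817487738531205903025679630261397923999947174456181446]
  SW := [([[1],[2],[3],[4],[5],[6],[7],[8],[9]],
    [⟨2, [1344, 769, 900, 1476, 452, 1734, 1096, 1029, 389, 1605, 323, 69, 835, 518, 1223, 1415, 642, 1541, 583, 7,
    1667, 707, 195, 1285, 966, 1154, 264], [[8, 1, 4, 5, 7, 3, 8, 3, 7, 5, 4, 1], [5, 1, 6, 3, 5, 6, 2, 3, 7,
    5, 4, 1]]⟩,
     ⟨3, [513, 1601, 64, 1665, 641, 256, 1409, 1024, 705, 897, 0, 385, 1537, 768, 1280, 1089, 833, 449, 1152, 1217,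
    1728, 1345, 321, 960, 1473, 577], [[1, 1, 0, 1, 0, 1, 1, 1, 1, 1, 0, 1, 0, 1, 1], [1, 0, 1, 1, 1, 1, 1]]⟩,
     ⟨1, [1344, 833, 640, 448, 256, 961, 1024, 1, 1216, 897, 1280, 1665, 1601, 1728, 1408], [[1, 0, 1, 0, 1, 0, 0,
    1, 0, 0, 1, 0, 1], [1, 0, 1, 0, 1, 0, 1, 0, 0, 0, 1, 0, 1]]⟩,
     ⟨0, [1280, 1217, 1600, 1729, 960, 1345, 1664, 897, 832], [[0, 0, 1, 0, 1, 1], [0, 1, 0, 0, 0, 1, 0, 0, 0]]⟩,
     ⟨4, [448], [[1], [0, 1, 0]]⟩,
     ⟨16, [1408, 641], [[0, 1, 0]]⟩,
     ⟨10, [1408], []⟩])]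

instance : NeZero NS.n := ⟨by decide⟩

theorem NS_ok : NS.ok = true := by decide +kernel

theorem NS_subs : NS.subsOK = true := by decide +kernel

theorem gNS_s0 : sub (gNS a1 b1 a2 b2 a3 b3 x c d) (NS.W 0) = gen [a1, b1, a2, b2, a3, b3, x, c, d] := by
  change gen (List.map (wv _) [[1],[2],[3],[4],[5],[6],[7],[8],[9]]) = _
  simp only [List.map_cons, List.map_nil, wv_cons, wv_nil, one_mul, gNS_1, gNS_2, gNS_3, gNS_4, gNS_5, gNS_6, gNS_7, gNS_8, gNS_9]

end Cfsg.Lib.F43
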