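import Cfsg.Agent.F43.Mod

/-! Facts about the model of `Sp₆(2)`. -/

set_option autoImplicit false
set_option maxRecDepth 100000
set_option linter.unusedSimpArgs false
set_option linter.unusedSectionVars false
set_option linter.unusedVariables false
set_option maxHeartbeats 1000000

namespace Cfsg.Lib.F43

open Subgroup Cfsg.Lib.Spor Cfsg.Lib.Spor.Bulk Cfsg.Lib.Spor.PK Cfsg.Lib.Spor.WF

variable {G : Type*} [Group G] {a1 b1 a2 b2 a3 b3 x c d : G}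

/-- more subgroups -/
@[reducible] def NS2 : PM := { NS with
  SW := [([[6,5],[1],[2],[3],[4],[9]],
    [⟨1, [1728, 1540, 1605, 1088, 324, 453, 1283, 1026, 836, 773, 643, 898, 385, 579, 130, 1473, 1345], [[3, 4, 5,
    4, 3], [1, 4, 5, 4, 2]]⟩,
     ⟨2, [1345, 769, 576, 833], [[1, 0, 1, 1, 1], [1, 1, 0, 1, 0, 1, 1]]⟩,
     ⟨3, [1216, 1153, 961, 0, 1665], [[0, 1, 1, 0, 1], [1, 0, 1, 1, 0]]⟩,
     ⟨0, [1664, 961, 1217], []⟩]),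
   ([[1],[2],[4,3],[6,5]],
    [⟨2, [1344, 769, 1027, 387, 1603, 899, 1475, 451], [[2], [0, 1, 0]]⟩,
     ⟨1, [1536, 1280], [[1]]⟩,
     ⟨3, [1664], []⟩]),
   ([[7],[8],[1],[2],[5,3],[6,4]],
    [⟨3, [1280, 707, 964, 1413, 1540, 645, 1666, 260, 1221, 1601, 1733, 833, 1156, 517, 384, 1025, 453, 768, 1092,
    1477, 901, 131, 1348], [[5, 0, 5, 0, 3, 0, 4, 5, 4], [0, 5, 1, 4, 5, 0, 1, 0, 3, 0], [2, 2, 2]]⟩,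
     ⟨0, [577, 64, 321], [[2], [1, 0, 1]]⟩,
     ⟨2, [1344, 385, 1409, 1024, 961, 1729, 641], [[1, 1], [1, 0, 1, 0, 1, 1, 0]]⟩,
     ⟨10, [1408, 1024], [[1]]⟩,
     ⟨16, [1408], []⟩]),
   ([[8],[3],[4],[5],[6],[2,1]],
    [⟨0, [64, 1538, 1732, 1281, 324, 1091, 644, 576, 835], [[3, 0, 2, 4, 3, 0, 4, 1, 2, 0], [4, 5]]⟩,
     ⟨3, [448, 705, 1408, 1025, 896, 1665, 768, 1217, 256, 1473, 385, 129, 513, 1153, 1601, 1345, 961], [[1, 0, 1,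
    0, 0, 1, 0, 0, 0], [1, 1, 1]]⟩,
     ⟨2, [896, 1024], [[1], [0, 0, 0]]⟩,
     ⟨1, [1728, 1281, 641], []⟩]),
   ([[7],[8],[9],[1],[3],[4],[5],[6]],
    [⟨3, [1280, 964, 1413, 1540, 647, 1601, 2, 69, 327, 833, 582, 455, 1735, 1093, 774], [[7], [5, 1, 7, 6, 2, 5,
    1, 7, 0]]⟩,
     ⟨0, [1729, 64, 833, 449, 1601, 321, 769, 1536, 1409, 577, 1281, 1089, 640, 961], [[1, 0, 1, 1, 1, 0, 1, 1, 1,
    1, 0, 1, 1, 1], [1, 1, 0, 1, 1, 1, 1], [1, 0, 1, 0, 1, 1, 1]]⟩,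
     ⟨2, [384, 706, 896, 1664, 1026, 1344, 1472], [[2, 2, 0, 1, 0], [0, 2, 0, 0, 0, 0]]⟩,
     ⟨1, [640, 960, 1409, 1280, 1729], [[1]]⟩,
     ⟨10, [1408], []⟩]),
   ([[1],[9,3,1],[3,4,9,3,4,3,1]],
    [⟨2, [1344], [[0, 2], [0, 1]]⟩,
     ⟨0, [960, 1409, 193], []⟩]),
   ([[1],[9,3,1],[3,4,9,3,4,3,1],[9,8,7,3],[7,6,8,6,7,6,1]],
    [⟨2, [1344], [[3], [0, 4], [0, 1], [0, 2]]⟩,
     ⟨0, [1600, 769, 1410, 963, 449, 66, 1283, 1090, 579, 195, 1730, 643, 1539, 835, 323], []⟩]),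
   ([[2,1],[4,3],[6,5],[7,2,1,7],[8,4,3,8]],
    [⟨2, [1344, 1026, 768, 386, 1731, 898, 1411, 708, 1602, 1474, 1668, 321, 1090, 580, 1216, 193, 257, 450, 515,
    1153, 1283, 641, 834, 66, 961, 1539, 4], [[0, 3, 1, 3, 4, 3, 2], [2, 4, 1, 3, 4, 3, 2, 2]]⟩,
     ⟨1, [1408, 385, 1216, 961, 0, 1281, 320, 833, 448, 256, 1153, 896, 1537, 1025, 1089, 576, 1345, 640, 1665,
    192, 1472, 1729, 1600, 705, 512, 769], [[0, 0, 1, 0, 1, 1], [1, 0, 0, 1, 0, 1, 0, 1, 1, 1, 0]]⟩,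
     ⟨0, [1152, 1537, 384, 1601, 576, 897, 1217, 1344, 1665, 832, 193, 1280, 1728, 769, 960], [[1, 0, 0, 0, 0], [0,
    0, 0, 0, 1]]⟩,
     ⟨3, [768, 1665, 960, 1152, 1729, 1280, 896, 1345, 1536], [[0, 0, 0, 0, 1], [1, 1, 0, 1, 0]]⟩,
     ⟨10, [1408, 1024], [[1], [0, 0, 0]]⟩,
     ⟨16, [1408], [[1]]⟩,
     ⟨4, [448], []⟩]),
   ([[3,4,9,3,4,3,1],[1,2,9,3,1,2,1],[5,6,8,5,6,5,3],[3,4,8,5,3,4,3],[5],[6]],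
    [⟨0, [960, 513, 1090, 1283, 194, 1603, 1346, 1667, 832, 1732, 1537, 645, 1408, 1025, 450, 128, 1475, 1153, 577,
    324, 66, 1217, 770, 384, 898, 259, 707], [[1, 3, 5, 3, 1], [2, 0, 4, 5, 1, 3]]⟩,
     ⟨2, [960, 193, 705, 1665, 513, 1088, 1025, 832, 1601, 257, 768, 1217, 1409, 1537, 65, 1345, 641, 1281, 384,
    897, 1472, 449, 1729, 321, 577, 1153], [[1, 1, 0, 1, 1, 0, 1, 0], [0, 1, 1, 0, 1, 0, 1, 1, 1, 1, 1, 0, 1,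
    1, 1, 1, 1, 1, 0, 1]]⟩,
     ⟨1, [1152, 1729, 960, 641, 320, 1536, 1025, 1344, 1409, 193, 513, 768, 1280, 897, 1664], [[0, 0, 0, 1, 0, 1,
    1], [1, 1, 1, 0, 1]]⟩,
     ⟨3, [1344, 1729, 1153, 960, 1665, 896, 1281, 769, 1536], [[1, 1, 1], [0, 1, 0, 1, 0, 0, 0]]⟩,
     ⟨4, [449], [[0], [1, 1]]⟩,
     ⟨10, [1024, 1409], [[0, 1]]⟩,
     ⟨16, [1408], []⟩])] }

instance : NeZero NS2.n := ⟨by decide⟩

theorem NS2_ok : NS2.ok = true := NS_ok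

theorem NS2_subs : NS2.subsOK = true := by decide +kernel

theorem NS2_s0 : sub (gNS a1 b1 a2 b2 a3 b3 x c d) (NS2.W 0) = gen [a3 * b3, a1, b1, a2, b2, d] := by
  change gen (List.map (wv _) [[6,5],[1],[2],[3],[4],[9]]) = _
  simp only [List.map_cons, List.map_nil, wv_cons, wv_nil, one_mul, gNS_1, gNS_2, gNS_3, gNS_4, gNS_5, gNS_6, gNS_7, gNS_8, gNS_9]

theorem NS2_s1 : sub (gNS a1 b1 a2 b2 a3 b3 x c d) (NS2.W 1) = gen [a1, b1, a2 * b2, a3 * b3] := by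
  change gen (List.map (wv _) [[1],[2],[4,3],[6,5]]) = _
  simp only [List.map_cons, List.map_nil, wv_cons, wv_nil, one_mul, gNS_1, gNS_2, gNS_3, gNS_4, gNS_5, gNS_6, gNS_7, gNS_8, gNS_9]

theorem NS2_s2 : sub (gNS a1 b1 a2 b2 a3 b3 x c d) (NS2.W 2) = gen [x, c, a1, b1, a2 * a3, b2 * b3] := by
  change gen (List.map (wv _) [[7],[8],[1],[2],[5,3],[6,4]]) = _
  simp only [List.map_cons, List.map_nil, wv_cons, wv_nil, one_mul, gNS_1, gNS_2, gNS_3, gNS_4, gNS_5, gNS_6, gNS_7, gNS_8, gNS_9]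

theorem NS2_s3 : sub (gNS a1 b1 a2 b2 a3 b3 x c d) (NS2.W 3) = gen [c, a2, b2, a3, b3, a1 * b1] := by
  change gen (List.map (wv _) [[8],[3],[4],[5],[6],[2,1]]) = _
  simp only [List.map_cons, List.map_nil, wv_cons, wv_nil, one_mul, gNS_1, gNS_2, gNS_3, gNS_4, gNS_5, gNS_6, gNS_7, gNS_8, gNS_9]

theorem NS2_s4 : sub (gNS a1 b1 a2 b2 a3 b3 x c d) (NS2.W 4) = gen [x, c, d, a1, a2, b2, a3, b3] := by
  change gen (List.map (wv _) [[7],[8],[9],[1],[3],[4],[5],[6]]) = _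
  simp only [List.map_cons, List.map_nil, wv_cons, wv_nil, one_mul, gNS_1, gNS_2, gNS_3, gNS_4, gNS_5, gNS_6, gNS_7, gNS_8, gNS_9]

theorem NS2_s5 : sub (gNS a1 b1 a2 b2 a3 b3 x c d) (NS2.W 5) = gen [a1, a1 * a2 * d, a1 * a2 * b2 * a2 * d * b2 * a2] := by
  change gen (List.map (wv _) [[1],[9,3,1],[3,4,9,3,4,3,1]]) = _
  simp only [List.map_cons, List.map_nil, wv_cons, wv_nil, one_mul, gNS_1, gNS_2, gNS_3, gNS_4, gNS_5, gNS_6, gNS_7, gNS_8, gNS_9]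

theorem NS2_s6 : sub (gNS a1 b1 a2 b2 a3 b3 x c d) (NS2.W 6) = gen [a1, a1 * a2 * d, a1 * a2 * b2 * a2 * d * b2 * a2, a2 * x * c * d, a1 * b3 * x * b3 * c * b3 * x] := by
  change gen (List.map (wv _) [[1],[9,3,1],[3,4,9,3,4,3,1],[9,8,7,3],[7,6,8,6,7,6,1]]) = _
  simp only [List.map_cons, List.map_nil, wv_cons, wv_nil, one_mul, gNS_1, gNS_2, gNS_3, gNS_4, gNS_5, gNS_6, gNS_7, gNS_8, gNS_9]

theorem NS2_s7 : sub (gNS a1 b1 a2 b2 a3 b3 x c d) (NS2.W 7) = gen [a1 * b1, a2 * b2, a3 * b3, x * a1 * b1 * x, c * a2 * b2 * c] := by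
  change gen (List.map (wv _) [[2,1],[4,3],[6,5],[7,2,1,7],[8,4,3,8]]) = _
  simp only [List.map_cons, List.map_nil, wv_cons, wv_nil, one_mul, gNS_1, gNS_2, gNS_3, gNS_4, gNS_5, gNS_6, gNS_7, gNS_8, gNS_9]

theorem NS2_s8 : sub (gNS a1 b1 a2 b2 a3 b3 x c d) (NS2.W 8) = gen [a1 * a2 * b2 * a2 * d * b2 * a2, a1 * b1 * a1 * a2 * d * b1 * a1, a2 * a3 * b3 * a3 * c * b3 * a3, a2 * b2 * a2 * a3 * c * b2 * a2, a3, b3] := by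
  change gen (List.map (wv _) [[3,4,9,3,4,3,1],[1,2,9,3,1,2,1],[5,6,8,5,6,5,3],[3,4,8,5,3,4,3],[5],[6]]) = _
  simp only [List.map_cons, List.map_nil, wv_cons, wv_nil, one_mul, gNS_1, gNS_2, gNS_3, gNS_4, gNS_5, gNS_6, gNS_7, gNS_8, gNS_9]

theorem NS2_crd_C3 (he : Emb NS.m (gNS a1 b1 a2 b2 a3 b3 x c d)) : Nat.card (gen [a3 * b3, a1, b1, a2, b2, d] : Subgroup G) = 2160 :=
  NS2_s0 (G := G) ▸ (PM.card_of_emb NS2_ok NS2_subs (show Emb NS2.m _ from he) 0).trans (by decide +kernel)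

theorem NS2_crd_CS (he : Emb NS.m (gNS a1 b1 a2 b2 a3 b3 x c d)) : Nat.card (gen [x, c, a1, b1, a2 * a3, b2 * b3] : Subgroup G) = 4608 :=
  NS2_s2 (G := G) ▸ (PM.card_of_emb NS2_ok NS2_subs (show Emb NS2.m _ from he) 2).trans (by decide +kernel)

theorem NS2_crd_C1 (he : Emb NS.m (gNS a1 b1 a2 b2 a3 b3 x c d)) : Nat.card (gen [c, a2, b2, a3, b3, a1 * b1] : Subgroup G) = 2160 :=
  NS2_s3 (G := G) ▸ (PM.card_of_emb NS2_ok NS2_subs (show Emb NS2.m _ from he) 3).trans (by decide +kernel)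

theorem NS2_crd_CA (he : Emb NS.m (gNS a1 b1 a2 b2 a3 b3 x c d)) : Nat.card (gen [x, c, d, a1, a2, b2, a3, b3] : Subgroup G) = 23040 :=
  NS2_s4 (G := G) ▸ (PM.card_of_emb NS2_ok NS2_subs (show Emb NS2.m _ from he) 4).trans (by decide +kernel)

theorem NS2_crd_NC (he : Emb NS.m (gNS a1 b1 a2 b2 a3 b3 x c d)) : Nat.card (gen [a1 * b1, a2 * b2, a3 * b3, x * a1 * b1 * x, c * a2 * b2 * c] : Subgroup G) = 1451520 :=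
  NS2_s7 (G := G) ▸ (PM.card_of_emb NS2_ok NS2_subs (show Emb NS2.m _ from he) 7).trans (by decide +kernel)

theorem NS2_crd_CH (he : Emb NS.m (gNS a1 b1 a2 b2 a3 b3 x c d)) : Nat.card (gen [a1 * a2 * b2 * a2 * d * b2 * a2, a1 * b1 * a1 * a2 * d * b1 * a1, a2 * a3 * b3 * a3 * c * b3 * a3, a2 * b2 * a2 * a3 * c * b2 * a2, a3, b3] : Subgroup G) = 1451520 :=
  NS2_s8 (G := G) ▸ (PM.card_of_emb NS2_ok NS2_subs (show Emb NS2.m _ from he) 8).trans (by decide +kernel)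

theorem NS_crd_T (he : Emb NS.m (gNS a1 b1 a2 b2 a3 b3 x c d)) : Nat.card (gen [a1, b1, a2, b2, a3, b3, x, c, d] : Subgroup G) = 1451520 :=
  gNS_s0 (G := G) ▸ (PM.card_of_emb NS_ok NS_subs he 0).trans (by decide +kernel)

theorem S_c3 (he : Emb NS.m (gNS a1 b1 a2 b2 a3 b3 x c d)) :
    Nat.card ↥(gen [a1, b1, a2, b2, a3, b3, x, c, d] ⊓ centralizer {a3 * b3}) = 2160 := by
  have := PM.cent_of_emb NS_ok he (W := NS.W 0) (cert := [⟨1, [1539, 1733, 7, 1608, 1282, 325, 966, 1092, 774, 456, 1416, 1025, 645, 198, 836, 583, 257, 129, 897, 1217,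
    384, 518, 705, 1152, 1672, 1344, 1472], [[5, 6, 1, 8, 1, 6, 5, 8, 1, 6, 0, 1, 8, 7, 3, 2, 6, 3, 8, 7], [3,
    7, 3, 4, 3, 8, 3]]⟩,
     ⟨17, [1344, 577, 320, 1473, 1536, 769, 1600, 1216, 193, 1664, 640, 1, 256, 1153, 1024, 385, 960, 1729, 832,
    513, 896, 705, 448, 129, 1280, 1408], [[0, 1, 0, 0, 0, 0, 1, 0, 0, 0, 0, 0], [0, 0, 0, 1, 0, 0, 1, 0, 0,
    0, 0, 0, 1, 0, 0]]⟩,
     ⟨27, [1472, 1665, 1408, 257, 896, 193, 704, 449, 1152, 513, 640, 320, 1, 1216, 961], [[0, 1, 0, 0, 1, 0, 1, 0,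
    1, 1], [1, 1, 0, 0]]⟩,
     ⟨2, [768, 832, 576, 1345], [[0, 0, 0, 1, 1], [1, 0, 0, 0]]⟩,
     ⟨14, [], [[0], [1]]⟩,
     ⟨16, [], [[0], [1]]⟩,
     ⟨5, [640, 1472, 448], [[1], [0, 0, 0, 1, 0]]⟩,
     ⟨24, [], [[0], [1]]⟩,
     ⟨13, [], [[0], [1]]⟩,
     ⟨6, [1280, 1601], [[0, 1, 0]]⟩,
     ⟨21, [], [[0]]⟩,
     ⟨23, [], [[0]]⟩,
     ⟨7, [640], []⟩])
    (es := [1, 2]) (x := [6,5]) (N := 1451520) (c := 2160) (ncs := [])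
    ((PM.card_sub NS_ok NS_subs 0).trans (by decide +kernel)) (by decide +kernel)
  simpa only [wv_cons, wv_nil, one_mul, List.forall_mem_cons, List.not_mem_nil, IsEmpty.forall_iff, implies_true, and_true, gNS_1, gNS_2, gNS_3, gNS_4, gNS_5, gNS_6, gNS_7, gNS_8, gNS_9, gNS_s0, exists_eq_right'] using this

theorem S_cs (he : Emb NS.m (gNS a1 b1 a2 b2 a3 b3 x c d)) :
    Nat.card ↥(gen [a1, b1, a2, b2, a3, b3, x, c, d] ⊓ centralizer {a1 * a2 * b2 * a2 * a3 * b3 * a3 * x * b2 * a2 * b3 * a3 * x * b2 * b3 * x}) = 4608 := by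
  have := PM.cent_of_emb NS_ok he (W := NS.W 0) (cert := [⟨2, [1344, 769, 900, 1476, 452, 1734, 1096, 1029, 389, 1605, 323, 69, 835, 518, 1223, 1415, 642, 1541, 583, 7,
    1667, 707, 195, 1285, 966, 1154, 264], [[8, 4, 5, 6, 3, 8, 1, 6, 5, 3, 6, 1], [4, 5, 6, 3, 7, 3, 6, 5, 4,
    6]]⟩,
     ⟨4, [448, 1728, 641, 64, 769, 576, 1089, 896, 1536, 0, 320, 512, 961, 384, 705, 1664, 1408, 1217, 1025, 1600,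
    1472, 192, 832, 1344, 1281, 1152], [[0, 0, 1, 0, 0, 1, 1, 0, 0, 1, 1, 0, 0, 1, 0, 0, 0, 0], [0, 1, 0, 0,
    0, 1, 0, 1, 0, 0, 0, 1, 0, 0, 0]]⟩,
     ⟨3, [896, 1281, 512, 1089, 1408, 641, 449, 1025, 1216, 1664, 1601, 384, 833, 704, 1473], [[1, 1, 1], [1, 0, 1,
    0, 1, 1, 0, 0]]⟩,
     ⟨7, [1024, 1601, 896, 1281, 641, 1665, 1217, 832, 1409], [[0, 1], [1, 0, 1, 0, 1, 1, 1, 0, 1, 0]]⟩,
     ⟨6, [512], [[0, 0], [0, 1]]⟩,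
     ⟨8, [], [[0], [1]]⟩,
     ⟨10, [1408, 1024], [[1]]⟩,
     ⟨13, [], [[0]]⟩,
     ⟨11, [], [[0]]⟩,
     ⟨14, [], [[0]]⟩,
     ⟨12, [], [[0]]⟩,
     ⟨15, [], [[0]]⟩,
     ⟨16, [1408], []⟩])
    (es := [1]) (x := [7,6,4,7,5,6,3,4,7,5,6,5,3,4,3,1]) (N := 1451520) (c := 4608) (ncs := [])
    ((PM.card_sub NS_ok NS_subs 0).trans (by decide +kernel)) (by decide +kernel)
  simpa only [wv_cons, wv_nil, one_mul, List.forall_mem_cons, List.not_mem_nil, IsEmpty.forall_iff, implies_true, and_true, gNS_1, gNS_2, gNS_3, gNS_4, gNS_5, gNS_6, gNS_7, gNS_8, gNS_9, gNS_s0, exists_eq_right'] using this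

theorem S_cz2 (he : Emb NS.m (gNS a1 b1 a2 b2 a3 b3 x c d)) :
    Nat.card ↥(gen [a1, b1, a2, b2, a3, b3, x, c, d] ⊓ centralizer {a1 * b1 * a2 * b2 * a3 * b3}) = 648 := by
  have := PM.cent_of_emb NS_ok he (W := NS.W 0) (cert := [⟨1, [1539, 1733, 7, 1608, 1282, 325, 966, 1092, 774, 456, 1416, 1025, 645, 198, 836, 583, 257, 129, 897, 1217,
    384, 518, 705, 1152, 1672, 1344, 1472], [[8, 1, 6, 3, 8, 1, 6, 3, 5, 8, 6, 4, 5], [3, 5, 7, 4, 5, 2, 3,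
    2]]⟩,
     ⟨9, [1280, 833, 1408, 1537, 1024, 1344, 193, 1664, 129, 384, 640, 449, 256, 1473, 704, 1729, 961, 1217, 1153,
    897, 321, 0, 513, 1088, 1600, 769], [[0, 1, 0, 1, 0, 1, 0], [0, 1, 1]]⟩,
     ⟨5, [0, 1473, 1665, 448, 897, 192, 705, 1089, 1281], [[0, 1, 0, 1, 1, 1, 0, 1, 1, 1, 0], [0, 1, 1, 1, 0, 1, 1,
    0, 0, 1, 0, 1]]⟩,
     ⟨2, [1344, 1536, 769, 256, 960, 1152, 1729], [[0, 0, 1], [0, 1, 0, 1, 0]]⟩,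
     ⟨7, [1472, 1088, 704], [[1], [0, 0, 1, 0]]⟩,
     ⟨6, [], [[0], [1]]⟩,
     ⟨3, [], [[0], [1]]⟩,
     ⟨8, [], [[0], [1]]⟩,
     ⟨4, [], [[0], [1]]⟩,
     ⟨10, [1408, 1024], [[1]]⟩,
     ⟨24, [1152], []⟩])
    (es := [1, 2]) (x := [6,5,4,3,2,1]) (N := 1451520) (c := 648) (ncs := [])
    ((PM.card_sub NS_ok NS_subs 0).trans (by decide +kernel)) (by decide +kernel)
  simpa only [wv_cons, wv_nil, one_mul, List.forall_mem_cons, List.not_mem_nil, IsEmpty.forall_iff, implies_true, and_true, gNS_1, gNS_2, gNS_3, gNS_4, gNS_5, gNS_6, gNS_7, gNS_8, gNS_9, gNS_s0, exists_eq_right'] using this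

theorem S_cz1 (he : Emb NS.m (gNS a1 b1 a2 b2 a3 b3 x c d)) :
    Nat.card ↥(gen [a1, b1, a2, b2, a3, b3, x, c, d] ⊓ centralizer {a1 * b1 * b2 * a2 * b3 * a3}) = 648 := by
  have := PM.cent_of_emb NS_ok he (W := NS.W 0) (cert := [⟨1, [1539, 1733, 7, 1608, 1282, 325, 966, 1092, 774, 456, 1416, 1025, 645, 198, 836, 583, 257, 129, 897, 1217,
    384, 518, 705, 1152, 1672, 1344, 1472], [[6, 3, 6, 1, 8, 3, 6, 1, 8], [3, 5, 7, 4, 5, 2, 3, 3, 7, 3]]⟩,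
     ⟨5, [1088, 1537, 448, 641, 1600, 833, 896, 577, 512, 769, 1728, 1, 1025, 256, 1153, 128, 193, 1280, 960, 1217,
    384, 705, 1409, 1345, 1665, 1473], [[0, 0, 0, 1, 0, 1, 0, 1, 0, 0, 1, 1, 1], [0, 0, 0, 1, 0, 0, 1, 1, 1,
    0]]⟩,
     ⟨9, [1728, 961, 0, 129, 1536, 769, 1152, 257, 1344], [[0, 0, 0, 1, 0, 1, 0, 1], [0, 1, 0, 1, 0, 1, 0, 0]]⟩,
     ⟨2, [1728, 961, 768, 1153, 1344, 1537, 256], [[1, 0, 1, 1, 0, 0], [0, 1, 0]]⟩,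
     ⟨25, [385, 832, 1216], [[0], [1, 0, 1, 1]]⟩,
     ⟨23, [], [[0], [1]]⟩,
     ⟨3, [896, 1280], [[1]]⟩,
     ⟨18, [768], []⟩])
    (es := [1, 2]) (x := [5,6,3,4,2,1]) (N := 1451520) (c := 648) (ncs := [])
    ((PM.card_sub NS_ok NS_subs 0).trans (by decide +kernel)) (by decide +kernel)
  simpa only [wv_cons, wv_nil, one_mul, List.forall_mem_cons, List.not_mem_nil, IsEmpty.forall_iff, implies_true, and_true, gNS_1, gNS_2, gNS_3, gNS_4, gNS_5, gNS_6, gNS_7, gNS_8, gNS_9, gNS_s0, exists_eq_right'] using this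

theorem S_c1 (he : Emb NS.m (gNS a1 b1 a2 b2 a3 b3 x c d)) :
    Nat.card ↥(gen [a1, b1, a2, b2, a3, b3, x, c, d] ⊓ centralizer {a1 * b1}) = 2160 := by
  have := PM.cent_of_emb NS_ok he (W := NS.W 0) (cert := [⟨2, [1344, 769, 900, 1476, 452, 1734, 1096, 1029, 389, 1605, 323, 69, 835, 518, 1223, 1415, 642, 1541, 583, 7,
    1667, 707, 195, 1285, 966, 1154, 264], [[8, 4, 5, 6, 3, 8, 1, 6, 5, 3, 6, 1], [0, 1, 0, 4, 5, 7, 6, 5, 4,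
    0]]⟩,
     ⟨12, [1536, 1345, 512, 641, 1152, 1409, 1088, 576, 1280, 833, 1472, 320, 1, 193, 704, 960, 65, 384, 1216,
    1665, 257, 896, 449, 1729, 1600, 1024], [[1, 1, 0, 0, 1, 1, 1], [0, 0, 0, 1, 0, 1, 0, 0, 0, 1, 0, 1, 0]]⟩,
     ⟨21, [1280, 321, 1536, 513, 640, 1729, 0, 1665, 1088, 1473, 832, 577, 1153, 385, 65], [[0, 0, 0, 1, 0, 1, 1],
    [0, 1, 0, 1, 1, 1]]⟩,
     ⟨3, [1601, 961, 1409, 448], [[1, 1, 1, 0, 1], [1, 1, 0, 1, 0, 1]]⟩,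
     ⟨26, [], [[0], [1]]⟩,
     ⟨11, [], [[0], [1]]⟩,
     ⟨4, [1024, 897, 1216], [[1, 0, 1], [1, 0, 0]]⟩,
     ⟨15, [], [[0], [1]]⟩,
     ⟨18, [], [[0], [1]]⟩,
     ⟨6, [512, 1473], [[1, 0]]⟩,
     ⟨16, [], [[0]]⟩,
     ⟨25, [], [[0]]⟩,
     ⟨7, [1408], []⟩])
    (es := [1, 2]) (x := [2,1]) (N := 1451520) (c := 2160) (ncs := [])
    ((PM.card_sub NS_ok NS_subs 0).trans (by decide +kernel)) (by decide +kernel)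
  simpa only [wv_cons, wv_nil, one_mul, List.forall_mem_cons, List.not_mem_nil, IsEmpty.forall_iff, implies_true, and_true, gNS_1, gNS_2, gNS_3, gNS_4, gNS_5, gNS_6, gNS_7, gNS_8, gNS_9, gNS_s0, exists_eq_right'] using this

theorem S_ca (he : Emb NS.m (gNS a1 b1 a2 b2 a3 b3 x c d)) :
    Nat.card ↥(gen [a1, b1, a2, b2, a3, b3, x, c, d] ⊓ centralizer {a1}) = 23040 := by
  have := PM.cent_of_emb NS_ok he (W := NS.W 0) (cert := [⟨2, [1344, 769, 900, 1476, 452, 1734, 1096, 1029, 389, 1605, 323, 69, 835, 518, 1223, 1415, 642, 1541, 583, 7,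
    1667, 707, 195, 1285, 966, 1154, 264], [[4, 5, 6, 3, 8, 2, 3, 7, 5, 4, 1, 6, 3, 5, 7, 5, 3, 6, 1], [7, 1,
    6, 3, 5, 6, 1, 8, 3, 6, 5, 4]]⟩,
     ⟨21, [1473, 1664, 1, 961, 448, 1408, 833, 257, 768, 1153, 897, 321, 704, 1601, 192, 641, 1281, 1536, 385,
    1217, 1728, 1025, 576, 1089, 512, 65], [[1, 0, 1, 0, 1, 1, 1, 0, 1, 1, 1, 1, 0, 1], [1, 0, 1, 0, 1, 1, 0,
    1, 1, 1, 0, 1, 0, 1, 1]]⟩,
     ⟨4, [1024, 385, 512, 1153, 1216, 704, 1664, 1472, 896], [[1, 0, 1, 0, 0, 0, 0, 1, 0, 1], [1, 0, 0, 1, 0, 0, 0,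
    0, 0, 0, 1, 0]]⟩,
     ⟨18, [], [[0], [1]]⟩,
     ⟨6, [1024, 1473, 897, 1216, 512, 1664, 704], [[1, 1, 0], [1, 0, 0, 1, 0, 1, 0]]⟩,
     ⟨16, [], [[0], [1]]⟩,
     ⟨8, [704, 1217, 1472, 897, 1664], [[0, 0, 1, 0, 0], [1, 1]]⟩,
     ⟨19, [], [[0], [1]]⟩,
     ⟨11, [896, 1665, 1473], []⟩])
    (es := [1]) (x := [1]) (N := 1451520) (c := 23040) (ncs := [])
    ((PM.card_sub NS_ok NS_subs 0).trans (by decide +kernel)) (by decide +kernel)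
  simpa only [wv_cons, wv_nil, one_mul, List.forall_mem_cons, List.not_mem_nil, IsEmpty.forall_iff, implies_true, and_true, gNS_1, gNS_2, gNS_3, gNS_4, gNS_5, gNS_6, gNS_7, gNS_8, gNS_9, gNS_s0, exists_eq_right'] using this

theorem S_g3 (he : Emb NS.m (gNS a1 b1 a2 b2 a3 b3 x c d)) :
    a1 * a3 * b3 = a3 * b3 * a1 ∧ b1 * a3 * b3 = a3 * b3 * b1 ∧ a2 * a3 * b3 = a3 * b3 * a2 ∧ b2 * a3 *
    b3 = a3 * b3 * b2 ∧ d * a3 * b3 = a3 * b3 * d := by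
  have := PM.holds NS2_ok NS2_subs (show Emb NS2.m _ from he) (p := (.and (.eq [6,5,1] [1,6,5]) (.and (.eq [6,5,2] [2,6,5]) (.and (.eq [6,5,3] [3,6,5]) (.and (.eq
      [6,5,4] [4,6,5]) (.eq [6,5,9] [9,6,5])))))) (by decide +kernel)
  simp only [Fm.sem, wv_cons, wv_nil, one_mul, upd_apply, Nat.reduceEqDiff, ↓reduceIte, gNS_1, gNS_2, gNS_3, gNS_4, gNS_5, gNS_6, gNS_7, gNS_8, gNS_9, NS2_s0, NS2_s1, NS2_s2, NS2_s3, NS2_s4, NS2_s5, NS2_s6, NS2_s7, NS2_s8, exists_eq_right'] at this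
  exact this

theorem S_gs (he : Emb NS.m (gNS a1 b1 a2 b2 a3 b3 x c d)) :
    x * a1 * a2 * b2 * a2 * a3 * b3 * a3 * x * b2 * a2 * b3 * a3 * x * b2 * b3 * x = a1 * a2 * b2 * a2 *
    a3 * b3 * a3 * x * b2 * a2 * b3 * a3 * x * b2 * b3 * x * x ∧ c * a1 * a2 * b2 * a2 * a3 * b3 *
    a3 * x * b2 * a2 * b3 * a3 * x * b2 * b3 * x = a1 * a2 * b2 * a2 * a3 * b3 * a3 * x * b2 * a2 *
    b3 * a3 * x * b2 * b3 * x * c ∧ a1 * a1 * a2 * b2 * a2 * a3 * b3 * a3 * x * b2 * a2 * b3 * a3 *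
    x * b2 * b3 * x = a1 * a2 * b2 * a2 * a3 * b3 * a3 * x * b2 * a2 * b3 * a3 * x * b2 * b3 * x *
    a1 ∧ b1 * a1 * a2 * b2 * a2 * a3 * b3 * a3 * x * b2 * a2 * b3 * a3 * x * b2 * b3 * x = a1 * a2 *
    b2 * a2 * a3 * b3 * a3 * x * b2 * a2 * b3 * a3 * x * b2 * b3 * x * b1 ∧ a2 * a3 * a1 * a2 * b2 *
    a2 * a3 * b3 * a3 * x * b2 * a2 * b3 * a3 * x * b2 * b3 * x = a1 * a2 * b2 * a2 * a3 * b3 * a3 *
    x * b2 * a2 * b3 * a3 * x * b2 * b3 * x * a2 * a3 ∧ b2 * b3 * a1 * a2 * b2 * a2 * a3 * b3 * a3 *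
    x * b2 * a2 * b3 * a3 * x * b2 * b3 * x = a1 * a2 * b2 * a2 * a3 * b3 * a3 * x * b2 * a2 * b3 *
    a3 * x * b2 * b3 * x * b2 * b3 := by
  have := PM.holds NS2_ok NS2_subs (show Emb NS2.m _ from he) (p := (.and (.eq [7,6,4,7,5,6,3,4,7,5,6,5,3,4,3,1,7] [7,7,6,4,7,5,6,3,4,7,5,6,5,3,4,3,1]) (.and (.eq
      [7,6,4,7,5,6,3,4,7,5,6,5,3,4,3,1,8] [8,7,6,4,7,5,6,3,4,7,5,6,5,3,4,3,1]) (.and (.eq
      [7,6,4,7,5,6,3,4,7,5,6,5,3,4,3,1,1] [1,7,6,4,7,5,6,3,4,7,5,6,5,3,4,3,1]) (.and (.eq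
      [7,6,4,7,5,6,3,4,7,5,6,5,3,4,3,1,2] [2,7,6,4,7,5,6,3,4,7,5,6,5,3,4,3,1]) (.and (.eq
      [7,6,4,7,5,6,3,4,7,5,6,5,3,4,3,1,5,3] [5,3,7,6,4,7,5,6,3,4,7,5,6,5,3,4,3,1]) (.eq
      [7,6,4,7,5,6,3,4,7,5,6,5,3,4,3,1,6,4] [6,4,7,6,4,7,5,6,3,4,7,5,6,5,3,4,3,1]))))))) (by decide +kernel)
  simp only [Fm.sem, wv_cons, wv_nil, one_mul, upd_apply, Nat.reduceEqDiff, ↓reduceIte, gNS_1, gNS_2, gNS_3, gNS_4, gNS_5, gNS_6, gNS_7, gNS_8, gNS_9, NS2_s0, NS2_s1, NS2_s2, NS2_s3, NS2_s4, NS2_s5, NS2_s6, NS2_s7, NS2_s8, exists_eq_right'] at this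
  exact this

theorem S_g1 (he : Emb NS.m (gNS a1 b1 a2 b2 a3 b3 x c d)) :
    c * a1 * b1 = a1 * b1 * c ∧ a2 * a1 * b1 = a1 * b1 * a2 ∧ b2 * a1 * b1 = a1 * b1 * b2 ∧ a3 * a1 * b1
    = a1 * b1 * a3 ∧ b3 * a1 * b1 = a1 * b1 * b3 := by
  have := PM.holds NS2_ok NS2_subs (show Emb NS2.m _ from he) (p := (.and (.eq [2,1,8] [8,2,1]) (.and (.eq [2,1,3] [3,2,1]) (.and (.eq [2,1,4] [4,2,1]) (.and (.eq
      [2,1,5] [5,2,1]) (.eq [2,1,6] [6,2,1])))))) (by decide +kernel)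
  simp only [Fm.sem, wv_cons, wv_nil, one_mul, upd_apply, Nat.reduceEqDiff, ↓reduceIte, gNS_1, gNS_2, gNS_3, gNS_4, gNS_5, gNS_6, gNS_7, gNS_8, gNS_9, NS2_s0, NS2_s1, NS2_s2, NS2_s3, NS2_s4, NS2_s5, NS2_s6, NS2_s7, NS2_s8, exists_eq_right'] at this
  exact this

theorem S_ga (he : Emb NS.m (gNS a1 b1 a2 b2 a3 b3 x c d)) :
    x * a1 = a1 * x ∧ c * a1 = a1 * c ∧ d * a1 = a1 * d ∧ a2 * a1 = a1 * a2 ∧ b2 * a1 = a1 * b2 ∧ a3 *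
    a1 = a1 * a3 ∧ b3 * a1 = a1 * b3 := by
  have := PM.holds NS2_ok NS2_subs (show Emb NS2.m _ from he) (p := (.and (.eq [1,7] [7,1]) (.and (.eq [1,8] [8,1]) (.and (.eq [1,9] [9,1]) (.and (.eq [1,3] [3,1])
      (.and (.eq [1,4] [4,1]) (.and (.eq [1,5] [5,1]) (.eq [1,6] [6,1])))))))) (by decide +kernel)
  simp only [Fm.sem, wv_cons, wv_nil, one_mul, upd_apply, Nat.reduceEqDiff, ↓reduceIte, gNS_1, gNS_2, gNS_3, gNS_4, gNS_5, gNS_6, gNS_7, gNS_8, gNS_9, NS2_s0, NS2_s1, NS2_s2, NS2_s3, NS2_s4, NS2_s5, NS2_s6, NS2_s7, NS2_s8, exists_eq_right'] at this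
  exact this

theorem S_d (he : Emb NS.m (gNS a1 b1 a2 b2 a3 b3 x c d)) :
    ∀ g ∈ gen [a3 * b3, a1, b1, a2, b2, d], g * a2 * b2 = a2 * b2 * g → g ∈ gen [a1, b1, a2 * b2, a3 *
    b3] := by
  have := PM.holds NS2_ok NS2_subs (show Emb NS2.m _ from he) (p := (.all 0 40 (.imp (.eq [4,3,40] [40,4,3]) (.ex 1 41 (.eq [40] [41]))))) (by decide +kernel)
  simp only [Fm.sem, wv_cons, wv_nil, one_mul, upd_apply, Nat.reduceEqDiff, ↓reduceIte, gNS_1, gNS_2, gNS_3, gNS_4, gNS_5, gNS_6, gNS_7, gNS_8, gNS_9, NS2_s0, NS2_s1, NS2_s2, NS2_s3, NS2_s4, NS2_s5, NS2_s6, NS2_s7, NS2_s8, exists_eq_right'] at this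
  exact this

theorem S_s1 (he : Emb NS.m (gNS a1 b1 a2 b2 a3 b3 x c d)) :
    ∀ w ∈ gen [x, c, a1, b1, a2 * a3, b2 * b3], w * w = 1 → w * a1 * b1 * b2 * a2 * b3 * a3 * w * a3 *
    b3 * a2 * b2 * b1 * a1 = a1 * b1 * b2 * a2 * b3 * a3 * w * a3 * b3 * a2 * b2 * b1 * a1 * w → w *
    a1 * b1 = a1 * b1 * w := by
  have := PM.holds NS2_ok NS2_subs (show Emb NS2.m _ from he) (p := (.all 2 40 (.imp (.eq [40,40] []) (.imp (.eq [1,2,4,3,6,5,40,5,6,3,4,2,1,40]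
      [40,1,2,4,3,6,5,40,5,6,3,4,2,1]) (.eq [2,1,40] [40,2,1]))))) (by decide +kernel)
  simp only [Fm.sem, wv_cons, wv_nil, one_mul, upd_apply, Nat.reduceEqDiff, ↓reduceIte, gNS_1, gNS_2, gNS_3, gNS_4, gNS_5, gNS_6, gNS_7, gNS_8, gNS_9, NS2_s0, NS2_s1, NS2_s2, NS2_s3, NS2_s4, NS2_s5, NS2_s6, NS2_s7, NS2_s8, exists_eq_right'] at this
  exact this

theorem S_cd (he : Emb NS.m (gNS a1 b1 a2 b2 a3 b3 x c d)) :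
    c * c = 1 ∧ d * d = 1 ∧ c * a1 = a1 * c ∧ c * b1 = b1 * c ∧ c * x * a1 * b1 * x = x * a1 * b1 * x *
    c ∧ a1 * b1 * a3 * x * b2 * a2 * b3 * x * b1 * a1 * b2 * x * b1 * b3 * x * b2 * d = c * a1 * b1
    * a3 * x * b2 * a2 * b3 * x * b1 * a1 * b2 * x * b1 * b3 * x * b2 ∧ ¬ c = 1 ∧ c * x = x * c ∧ c
    * a2 = a2 * c ∧ c * a3 = a3 * c ∧ c * b2 * b3 * x * b2 * b3 = b2 * b3 * x * b2 * b3 * c ∧ d * a3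
    = a3 * d ∧ d * b3 = b3 * d := by
  have := PM.holds NS2_ok NS2_subs (show Emb NS2.m _ from he) (p := (.and (.eq [8,8] []) (.and (.eq [9,9] []) (.and (.eq [1,8] [8,1]) (.and (.eq [2,8] [8,2]) (.and (.eq
      [7,2,1,7,8] [8,7,2,1,7]) (.and (.eq [9,4,7,6,2,7,4,1,2,7,6,3,4,7,5,2,1]
      [4,7,6,2,7,4,1,2,7,6,3,4,7,5,2,1,8]) (.and (.not (.eq [8] [])) (.and (.eq [7,8] [8,7]) (.and
      (.eq [3,8] [8,3]) (.and (.eq [5,8] [8,5]) (.and (.eq [6,4,7,6,4,8] [8,6,4,7,6,4]) (.and (.eq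
      [5,9] [9,5]) (.eq [6,9] [9,6])))))))))))))) (by decide +kernel)
  simp only [Fm.sem, wv_cons, wv_nil, one_mul, upd_apply, Nat.reduceEqDiff, ↓reduceIte, gNS_1, gNS_2, gNS_3, gNS_4, gNS_5, gNS_6, gNS_7, gNS_8, gNS_9, NS2_s0, NS2_s1, NS2_s2, NS2_s3, NS2_s4, NS2_s5, NS2_s6, NS2_s7, NS2_s8, exists_eq_right'] at this
  exact this

theorem S_cu (he : Emb NS.m (gNS a1 b1 a2 b2 a3 b3 x c d)) :
    ∀ g ∈ gen [c, a2, b2, a3, b3, a1 * b1], g * x = x * g → g * a1 = a1 * g → g * a2 = a2 * g → g * a3 =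
    a3 * g → g * b2 * b3 * x * b2 * b3 = b2 * b3 * x * b2 * b3 * g → (g = 1 ∨ g = c) := by
  have := PM.holds NS2_ok NS2_subs (show Emb NS2.m _ from he) (p := (.all 3 40 (.imp (.eq [7,40] [40,7]) (.imp (.eq [1,40] [40,1]) (.imp (.eq [3,40] [40,3]) (.imp (.eq
      [5,40] [40,5]) (.imp (.eq [6,4,7,6,4,40] [40,6,4,7,6,4]) (.or (.eq [40] []) (.eq [40]
      [8]))))))))) (by decide +kernel)
  simp only [Fm.sem, wv_cons, wv_nil, one_mul, upd_apply, Nat.reduceEqDiff, ↓reduceIte, gNS_1, gNS_2, gNS_3, gNS_4, gNS_5, gNS_6, gNS_7, gNS_8, gNS_9, NS2_s0, NS2_s1, NS2_s2, NS2_s3, NS2_s4, NS2_s5, NS2_s6, NS2_s7, NS2_s8, exists_eq_right'] at this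
  exact this

theorem S_e1 (he : Emb NS.m (gNS a1 b1 a2 b2 a3 b3 x c d)) :
    ∀ g ∈ gen [a3 * b3, a1, b1, a2, b2, d], g * g = 1 → g * a1 = a1 * g → g * a2 * b2 * g * b2 * a2 = a2
    * b2 * g * b2 * a2 * g → g ∈ gen [a1, a1 * a2 * d, a1 * a2 * b2 * a2 * d * b2 * a2] := by
  have := PM.holds NS2_ok NS2_subs (show Emb NS2.m _ from he) (p := (.all 0 40 (.imp (.eq [40,40] []) (.imp (.eq [1,40] [40,1]) (.imp (.eq [3,4,40,4,3,40]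
      [40,3,4,40,4,3]) (.ex 5 41 (.eq [40] [41]))))))) (by decide +kernel)
  simp only [Fm.sem, wv_cons, wv_nil, one_mul, upd_apply, Nat.reduceEqDiff, ↓reduceIte, gNS_1, gNS_2, gNS_3, gNS_4, gNS_5, gNS_6, gNS_7, gNS_8, gNS_9, NS2_s0, NS2_s1, NS2_s2, NS2_s3, NS2_s4, NS2_s5, NS2_s6, NS2_s7, NS2_s8, exists_eq_right'] at this
  exact this

theorem S_th (he : Emb NS.m (gNS a1 b1 a2 b2 a3 b3 x c d)) :
    ∀ t ∈ gen [a1, a1 * a2 * d, a1 * a2 * b2 * a2 * d * b2 * a2, a2 * x * c * d, a1 * b3 * x * b3 * c *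
    b3 * x], x * t * x ∈ gen [a1, a1 * a2 * d, a1 * a2 * b2 * a2 * d * b2 * a2, a2 * x * c * d, a1 *
    b3 * x * b3 * c * b3 * x] ∧ c * t * c ∈ gen [a1, a1 * a2 * d, a1 * a2 * b2 * a2 * d * b2 * a2,
    a2 * x * c * d, a1 * b3 * x * b3 * c * b3 * x] ∧ d * t * d ∈ gen [a1, a1 * a2 * d, a1 * a2 * b2
    * a2 * d * b2 * a2, a2 * x * c * d, a1 * b3 * x * b3 * c * b3 * x] ∧ a1 * t * a1 ∈ gen [a1, a1 *
    a2 * d, a1 * a2 * b2 * a2 * d * b2 * a2, a2 * x * c * d, a1 * b3 * x * b3 * c * b3 * x] ∧ a2 * t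
    * a2 ∈ gen [a1, a1 * a2 * d, a1 * a2 * b2 * a2 * d * b2 * a2, a2 * x * c * d, a1 * b3 * x * b3 *
    c * b3 * x] ∧ b2 * t * b2 ∈ gen [a1, a1 * a2 * d, a1 * a2 * b2 * a2 * d * b2 * a2, a2 * x * c *
    d, a1 * b3 * x * b3 * c * b3 * x] ∧ a3 * t * a3 ∈ gen [a1, a1 * a2 * d, a1 * a2 * b2 * a2 * d *
    b2 * a2, a2 * x * c * d, a1 * b3 * x * b3 * c * b3 * x] ∧ b3 * t * b3 ∈ gen [a1, a1 * a2 * d, a1
    * a2 * b2 * a2 * d * b2 * a2, a2 * x * c * d, a1 * b3 * x * b3 * c * b3 * x] := by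
  have := PM.holds NS2_ok NS2_subs (show Emb NS2.m _ from he) (p := (.all 6 40 (.and (.ex 6 41 (.eq [7,40,7] [41])) (.and (.ex 6 41 (.eq [8,40,8] [41])) (.and (.ex 6 41
      (.eq [9,40,9] [41])) (.and (.ex 6 41 (.eq [1,40,1] [41])) (.and (.ex 6 41 (.eq [3,40,3] [41]))
      (.and (.ex 6 41 (.eq [4,40,4] [41])) (.and (.ex 6 41 (.eq [5,40,5] [41])) (.ex 6 41 (.eq
      [6,40,6] [41]))))))))))) (by decide +kernel)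
  simp only [Fm.sem, wv_cons, wv_nil, one_mul, upd_apply, Nat.reduceEqDiff, ↓reduceIte, gNS_1, gNS_2, gNS_3, gNS_4, gNS_5, gNS_6, gNS_7, gNS_8, gNS_9, NS2_s0, NS2_s1, NS2_s2, NS2_s3, NS2_s4, NS2_s5, NS2_s6, NS2_s7, NS2_s8, exists_eq_right'] at this
  exact this

theorem S_yu (he : Emb NS.m (gNS a1 b1 a2 b2 a3 b3 x c d)) :
    ∀ g ∈ gen [a3 * b3, a1, b1, a2, b2, d], g * a1 = a1 * g → g * a2 = a2 * g → g * a3 = a3 * g → ¬ g =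
    1 → g * b1 * g * b1 * g * b1 * g * b1 = 1 → g * b2 * g * b2 * g * b2 * g * b2 = 1 → g = a1 * a2
    * d := by
  have := PM.holds NS2_ok NS2_subs (show Emb NS2.m _ from he) (p := (.all 0 40 (.imp (.eq [1,40] [40,1]) (.imp (.eq [3,40] [40,3]) (.imp (.eq [5,40] [40,5]) (.imp (.not
      (.eq [40] [])) (.imp (.eq [2,40,2,40,2,40,2,40] []) (.imp (.eq [4,40,4,40,4,40,4,40] []) (.eq
      [40] [9,3,1]))))))))) (by decide +kernel)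
  simp only [Fm.sem, wv_cons, wv_nil, one_mul, upd_apply, Nat.reduceEqDiff, ↓reduceIte, gNS_1, gNS_2, gNS_3, gNS_4, gNS_5, gNS_6, gNS_7, gNS_8, gNS_9, NS2_s0, NS2_s1, NS2_s2, NS2_s3, NS2_s4, NS2_s5, NS2_s6, NS2_s7, NS2_s8, exists_eq_right'] at this
  exact this

theorem S_y1t2t (he : Emb NS.m (gNS a1 b1 a2 b2 a3 b3 x c d)) :
    ¬ a1 * a2 * d = 1 ∧ a1 * a2 * d * a3 = a3 * a1 * a2 * d ∧ a1 * a2 * d * b3 = b3 * a1 * a2 * d ∧ a1 *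
    a2 * d * a1 = a1 * a1 * a2 * d ∧ a1 * a2 * d * a2 = a2 * a1 * a2 * d ∧ a1 * a2 * d * b1 * a1 *
    a2 * d * b1 * a1 * a2 * d * b1 * a1 * a2 * d * b1 = 1 ∧ a1 * a2 * d * b2 * a1 * a2 * d * b2 * a1
    * a2 * d * b2 * a1 * a2 * d * b2 = 1 := by
  have := PM.holds NS2_ok NS2_subs (show Emb NS2.m _ from he) (p := (.and (.not (.eq [9,3,1] [])) (.and (.eq [5,9,3,1] [9,3,1,5]) (.and (.eq [6,9,3,1] [9,3,1,6]) (.and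
      (.eq [1,9,3,1] [9,3,1,1]) (.and (.eq [3,9,3,1] [9,3,1,3]) (.and (.eq
      [2,9,3,1,2,9,3,1,2,9,3,1,2,9,3,1] []) (.eq [4,9,3,1,4,9,3,1,4,9,3,1,4,9,3,1] [])))))))) (by decide +kernel)
  simp only [Fm.sem, wv_cons, wv_nil, one_mul, upd_apply, Nat.reduceEqDiff, ↓reduceIte, gNS_1, gNS_2, gNS_3, gNS_4, gNS_5, gNS_6, gNS_7, gNS_8, gNS_9, NS2_s0, NS2_s1, NS2_s2, NS2_s3, NS2_s4, NS2_s5, NS2_s6, NS2_s7, NS2_s8, exists_eq_right'] at this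
  exact this

theorem S_y1t2f (he : Emb NS.m (gNS a1 b1 a2 b2 a3 b3 x c d)) :
    ¬ a1 * a2 * b2 * a2 * d * b2 * a2 = 1 ∧ a1 * a2 * b2 * a2 * d * b2 * a2 * a3 = a3 * a1 * a2 * b2 *
    a2 * d * b2 * a2 ∧ a1 * a2 * b2 * a2 * d * b2 * a2 * b3 = b3 * a1 * a2 * b2 * a2 * d * b2 * a2 ∧
    a1 * a2 * b2 * a2 * d * b2 * a2 * a1 = a1 * a1 * a2 * b2 * a2 * d * b2 * a2 ∧ a1 * a2 * b2 * a2
    * d * b2 * a2 * b2 = b2 * a1 * a2 * b2 * a2 * d * b2 * a2 ∧ a1 * a2 * b2 * a2 * d * b2 * a2 * b1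
    * a1 * a2 * b2 * a2 * d * b2 * a2 * b1 * a1 * a2 * b2 * a2 * d * b2 * a2 * b1 * a1 * a2 * b2 *
    a2 * d * b2 * a2 * b1 = 1 ∧ a1 * a2 * b2 * a2 * d * b2 * a2 * a2 * a1 * a2 * b2 * a2 * d * b2 *
    a2 * a2 * a1 * a2 * b2 * a2 * d * b2 * a2 * a2 * a1 * a2 * b2 * a2 * d * b2 * a2 * a2 = 1 := by
  have := PM.holds NS2_ok NS2_subs (show Emb NS2.m _ from he) (p := (.and (.not (.eq [3,4,9,3,4,3,1] [])) (.and (.eq [5,3,4,9,3,4,3,1] [3,4,9,3,4,3,1,5]) (.and (.eq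
      [6,3,4,9,3,4,3,1] [3,4,9,3,4,3,1,6]) (.and (.eq [1,3,4,9,3,4,3,1] [3,4,9,3,4,3,1,1]) (.and
      (.eq [4,3,4,9,3,4,3,1] [3,4,9,3,4,3,1,4]) (.and (.eq
      [2,3,4,9,3,4,3,1,2,3,4,9,3,4,3,1,2,3,4,9,3,4,3,1,2,3,4,9,3,4,3,1] []) (.eq
      [3,3,4,9,3,4,3,1,3,3,4,9,3,4,3,1,3,3,4,9,3,4,3,1,3,3,4,9,3,4,3,1] [])))))))) (by decide +kernel)
  simp only [Fm.sem, wv_cons, wv_nil, one_mul, upd_apply, Nat.reduceEqDiff, ↓reduceIte, gNS_1, gNS_2, gNS_3, gNS_4, gNS_5, gNS_6, gNS_7, gNS_8, gNS_9, NS2_s0, NS2_s1, NS2_s2, NS2_s3, NS2_s4, NS2_s5, NS2_s6, NS2_s7, NS2_s8, exists_eq_right'] at this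
  exact this

theorem S_y1f2t (he : Emb NS.m (gNS a1 b1 a2 b2 a3 b3 x c d)) :
    ¬ a1 * b1 * a1 * a2 * d * b1 * a1 = 1 ∧ a1 * b1 * a1 * a2 * d * b1 * a1 * a3 = a3 * a1 * b1 * a1 *
    a2 * d * b1 * a1 ∧ a1 * b1 * a1 * a2 * d * b1 * a1 * b3 = b3 * a1 * b1 * a1 * a2 * d * b1 * a1 ∧
    a1 * b1 * a1 * a2 * d * b1 * a1 * b1 = b1 * a1 * b1 * a1 * a2 * d * b1 * a1 ∧ a1 * b1 * a1 * a2
    * d * b1 * a1 * a2 = a2 * a1 * b1 * a1 * a2 * d * b1 * a1 ∧ a1 * b1 * a1 * a2 * d * b1 * a1 * a1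
    * a1 * b1 * a1 * a2 * d * b1 * a1 * a1 * a1 * b1 * a1 * a2 * d * b1 * a1 * a1 * a1 * b1 * a1 *
    a2 * d * b1 * a1 * a1 = 1 ∧ a1 * b1 * a1 * a2 * d * b1 * a1 * b2 * a1 * b1 * a1 * a2 * d * b1 *
    a1 * b2 * a1 * b1 * a1 * a2 * d * b1 * a1 * b2 * a1 * b1 * a1 * a2 * d * b1 * a1 * b2 = 1 := by
  have := PM.holds NS2_ok NS2_subs (show Emb NS2.m _ from he) (p := (.and (.not (.eq [1,2,9,3,1,2,1] [])) (.and (.eq [5,1,2,9,3,1,2,1] [1,2,9,3,1,2,1,5]) (.and (.eq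
      [6,1,2,9,3,1,2,1] [1,2,9,3,1,2,1,6]) (.and (.eq [2,1,2,9,3,1,2,1] [1,2,9,3,1,2,1,2]) (.and
      (.eq [3,1,2,9,3,1,2,1] [1,2,9,3,1,2,1,3]) (.and (.eq
      [1,1,2,9,3,1,2,1,1,1,2,9,3,1,2,1,1,1,2,9,3,1,2,1,1,1,2,9,3,1,2,1] []) (.eq
      [4,1,2,9,3,1,2,1,4,1,2,9,3,1,2,1,4,1,2,9,3,1,2,1,4,1,2,9,3,1,2,1] [])))))))) (by decide +kernel)
  simp only [Fm.sem, wv_cons, wv_nil, one_mul, upd_apply, Nat.reduceEqDiff, ↓reduceIte, gNS_1, gNS_2, gNS_3, gNS_4, gNS_5, gNS_6, gNS_7, gNS_8, gNS_9, NS2_s0, NS2_s1, NS2_s2, NS2_s3, NS2_s4, NS2_s5, NS2_s6, NS2_s7, NS2_s8, exists_eq_right'] at this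
  exact this

theorem S_y1f2f (he : Emb NS.m (gNS a1 b1 a2 b2 a3 b3 x c d)) :
    ¬ a1 * b1 * a1 * a2 * b2 * a2 * d * b1 * a1 * b2 * a2 = 1 ∧ a1 * b1 * a1 * a2 * b2 * a2 * d * b1 *
    a1 * b2 * a2 * a3 = a3 * a1 * b1 * a1 * a2 * b2 * a2 * d * b1 * a1 * b2 * a2 ∧ a1 * b1 * a1 * a2
    * b2 * a2 * d * b1 * a1 * b2 * a2 * b3 = b3 * a1 * b1 * a1 * a2 * b2 * a2 * d * b1 * a1 * b2 *
    a2 ∧ a1 * b1 * a1 * a2 * b2 * a2 * d * b1 * a1 * b2 * a2 * b1 = b1 * a1 * b1 * a1 * a2 * b2 * a2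
    * d * b1 * a1 * b2 * a2 ∧ a1 * b1 * a1 * a2 * b2 * a2 * d * b1 * a1 * b2 * a2 * b2 = b2 * a1 *
    b1 * a1 * a2 * b2 * a2 * d * b1 * a1 * b2 * a2 ∧ a1 * b1 * a1 * a2 * b2 * a2 * d * b1 * a1 * b2
    * a2 * a1 * a1 * b1 * a1 * a2 * b2 * a2 * d * b1 * a1 * b2 * a2 * a1 * a1 * b1 * a1 * a2 * b2 *
    a2 * d * b1 * a1 * b2 * a2 * a1 * a1 * b1 * a1 * a2 * b2 * a2 * d * b1 * a1 * b2 * a2 * a1 = 1 ∧
    a1 * b1 * a1 * a2 * b2 * a2 * d * b1 * a1 * b2 * a2 * a2 * a1 * b1 * a1 * a2 * b2 * a2 * d * b1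
    * a1 * b2 * a2 * a2 * a1 * b1 * a1 * a2 * b2 * a2 * d * b1 * a1 * b2 * a2 * a2 * a1 * b1 * a1 *
    a2 * b2 * a2 * d * b1 * a1 * b2 * a2 * a2 = 1 := by
  have := PM.holds NS2_ok NS2_subs (show Emb NS2.m _ from he) (p := (.and (.not (.eq [3,4,1,2,9,3,4,3,1,2,1] [])) (.and (.eq [5,3,4,1,2,9,3,4,3,1,2,1]
      [3,4,1,2,9,3,4,3,1,2,1,5]) (.and (.eq [6,3,4,1,2,9,3,4,3,1,2,1] [3,4,1,2,9,3,4,3,1,2,1,6])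
      (.and (.eq [2,3,4,1,2,9,3,4,3,1,2,1] [3,4,1,2,9,3,4,3,1,2,1,2]) (.and (.eq
      [4,3,4,1,2,9,3,4,3,1,2,1] [3,4,1,2,9,3,4,3,1,2,1,4]) (.and (.eq
      [1,3,4,1,2,9,3,4,3,1,2,1,1,3,4,1,2,9,3,4,3,1,2,1,1,3,4,1,2,9,3,4,3,1,2,1,1,3,4,1,2,9,3,4,3,1,2,1]
      []) (.eq
      [3,3,4,1,2,9,3,4,3,1,2,1,3,3,4,1,2,9,3,4,3,1,2,1,3,3,4,1,2,9,3,4,3,1,2,1,3,3,4,1,2,9,3,4,3,1,2,1]
      [])))))))) (by decide +kernel)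
  simp only [Fm.sem, wv_cons, wv_nil, one_mul, upd_apply, Nat.reduceEqDiff, ↓reduceIte, gNS_1, gNS_2, gNS_3, gNS_4, gNS_5, gNS_6, gNS_7, gNS_8, gNS_9, NS2_s0, NS2_s1, NS2_s2, NS2_s3, NS2_s4, NS2_s5, NS2_s6, NS2_s7, NS2_s8, exists_eq_right'] at this
  exact this

theorem S_y1t3t (he : Emb NS.m (gNS a1 b1 a2 b2 a3 b3 x c d)) :
    ¬ a2 * x * c * d = 1 ∧ a2 * x * c * d * a2 = a2 * a2 * x * c * d ∧ a2 * x * c * d * b2 = b2 * a2 * x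
    * c * d ∧ a2 * x * c * d * a1 = a1 * a2 * x * c * d ∧ a2 * x * c * d * a3 = a3 * a2 * x * c * d
    ∧ a2 * x * c * d * b1 * a2 * x * c * d * b1 * a2 * x * c * d * b1 * a2 * x * c * d * b1 = 1 ∧ a2
    * x * c * d * b3 * a2 * x * c * d * b3 * a2 * x * c * d * b3 * a2 * x * c * d * b3 = 1 := by
  have := PM.holds NS2_ok NS2_subs (show Emb NS2.m _ from he) (p := (.and (.not (.eq [9,8,7,3] [])) (.and (.eq [3,9,8,7,3] [9,8,7,3,3]) (.and (.eq [4,9,8,7,3]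
      [9,8,7,3,4]) (.and (.eq [1,9,8,7,3] [9,8,7,3,1]) (.and (.eq [5,9,8,7,3] [9,8,7,3,5]) (.and
      (.eq [2,9,8,7,3,2,9,8,7,3,2,9,8,7,3,2,9,8,7,3] []) (.eq
      [6,9,8,7,3,6,9,8,7,3,6,9,8,7,3,6,9,8,7,3] [])))))))) (by decide +kernel)
  simp only [Fm.sem, wv_cons, wv_nil, one_mul, upd_apply, Nat.reduceEqDiff, ↓reduceIte, gNS_1, gNS_2, gNS_3, gNS_4, gNS_5, gNS_6, gNS_7, gNS_8, gNS_9, NS2_s0, NS2_s1, NS2_s2, NS2_s3, NS2_s4, NS2_s5, NS2_s6, NS2_s7, NS2_s8, exists_eq_right'] at this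
  exact this

theorem S_y1t3f (he : Emb NS.m (gNS a1 b1 a2 b2 a3 b3 x c d)) :
    ¬ a1 * b3 * x * b3 * c * b3 * x = 1 ∧ a1 * b3 * x * b3 * c * b3 * x * a2 = a2 * a1 * b3 * x * b3 * c
    * b3 * x ∧ a1 * b3 * x * b3 * c * b3 * x * b2 = b2 * a1 * b3 * x * b3 * c * b3 * x ∧ a1 * b3 * x
    * b3 * c * b3 * x * a1 = a1 * a1 * b3 * x * b3 * c * b3 * x ∧ a1 * b3 * x * b3 * c * b3 * x * b3
    = b3 * a1 * b3 * x * b3 * c * b3 * x ∧ a1 * b3 * x * b3 * c * b3 * x * b1 * a1 * b3 * x * b3 * c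
    * b3 * x * b1 * a1 * b3 * x * b3 * c * b3 * x * b1 * a1 * b3 * x * b3 * c * b3 * x * b1 = 1 ∧ a1
    * b3 * x * b3 * c * b3 * x * a3 * a1 * b3 * x * b3 * c * b3 * x * a3 * a1 * b3 * x * b3 * c * b3
    * x * a3 * a1 * b3 * x * b3 * c * b3 * x * a3 = 1 := by
  have := PM.holds NS2_ok NS2_subs (show Emb NS2.m _ from he) (p := (.and (.not (.eq [7,6,8,6,7,6,1] [])) (.and (.eq [3,7,6,8,6,7,6,1] [7,6,8,6,7,6,1,3]) (.and (.eq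
      [4,7,6,8,6,7,6,1] [7,6,8,6,7,6,1,4]) (.and (.eq [1,7,6,8,6,7,6,1] [7,6,8,6,7,6,1,1]) (.and
      (.eq [6,7,6,8,6,7,6,1] [7,6,8,6,7,6,1,6]) (.and (.eq
      [2,7,6,8,6,7,6,1,2,7,6,8,6,7,6,1,2,7,6,8,6,7,6,1,2,7,6,8,6,7,6,1] []) (.eq
      [5,7,6,8,6,7,6,1,5,7,6,8,6,7,6,1,5,7,6,8,6,7,6,1,5,7,6,8,6,7,6,1] [])))))))) (by decide +kernel)
  simp only [Fm.sem, wv_cons, wv_nil, one_mul, upd_apply, Nat.reduceEqDiff, ↓reduceIte, gNS_1, gNS_2, gNS_3, gNS_4, gNS_5, gNS_6, gNS_7, gNS_8, gNS_9, NS2_s0, NS2_s1, NS2_s2, NS2_s3, NS2_s4, NS2_s5, NS2_s6, NS2_s7, NS2_s8, exists_eq_right'] at this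
  exact this

theorem S_y1f3t (he : Emb NS.m (gNS a1 b1 a2 b2 a3 b3 x c d)) :
    ¬ b1 * a3 * x * b1 * d * b1 * x = 1 ∧ b1 * a3 * x * b1 * d * b1 * x * a2 = a2 * b1 * a3 * x * b1 * d
    * b1 * x ∧ b1 * a3 * x * b1 * d * b1 * x * b2 = b2 * b1 * a3 * x * b1 * d * b1 * x ∧ b1 * a3 * x
    * b1 * d * b1 * x * b1 = b1 * b1 * a3 * x * b1 * d * b1 * x ∧ b1 * a3 * x * b1 * d * b1 * x * a3
    = a3 * b1 * a3 * x * b1 * d * b1 * x ∧ b1 * a3 * x * b1 * d * b1 * x * a1 * b1 * a3 * x * b1 * d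
    * b1 * x * a1 * b1 * a3 * x * b1 * d * b1 * x * a1 * b1 * a3 * x * b1 * d * b1 * x * a1 = 1 ∧ b1
    * a3 * x * b1 * d * b1 * x * b3 * b1 * a3 * x * b1 * d * b1 * x * b3 * b1 * a3 * x * b1 * d * b1
    * x * b3 * b1 * a3 * x * b1 * d * b1 * x * b3 = 1 := by
  have := PM.holds NS2_ok NS2_subs (show Emb NS2.m _ from he) (p := (.and (.not (.eq [7,2,9,2,7,5,2] [])) (.and (.eq [3,7,2,9,2,7,5,2] [7,2,9,2,7,5,2,3]) (.and (.eq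
      [4,7,2,9,2,7,5,2] [7,2,9,2,7,5,2,4]) (.and (.eq [2,7,2,9,2,7,5,2] [7,2,9,2,7,5,2,2]) (.and
      (.eq [5,7,2,9,2,7,5,2] [7,2,9,2,7,5,2,5]) (.and (.eq
      [1,7,2,9,2,7,5,2,1,7,2,9,2,7,5,2,1,7,2,9,2,7,5,2,1,7,2,9,2,7,5,2] []) (.eq
      [6,7,2,9,2,7,5,2,6,7,2,9,2,7,5,2,6,7,2,9,2,7,5,2,6,7,2,9,2,7,5,2] [])))))))) (by decide +kernel)
  simp only [Fm.sem, wv_cons, wv_nil, one_mul, upd_apply, Nat.reduceEqDiff, ↓reduceIte, gNS_1, gNS_2, gNS_3, gNS_4, gNS_5, gNS_6, gNS_7, gNS_8, gNS_9, NS2_s0, NS2_s1, NS2_s2, NS2_s3, NS2_s4, NS2_s5, NS2_s6, NS2_s7, NS2_s8, exists_eq_right'] at this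
  exact this

theorem S_y1f3f (he : Emb NS.m (gNS a1 b1 a2 b2 a3 b3 x c d)) :
    ¬ a1 * b1 * a1 * b3 * x * b3 * c * b3 * x * b1 * a1 = 1 ∧ a1 * b1 * a1 * b3 * x * b3 * c * b3 * x *
    b1 * a1 * a2 = a2 * a1 * b1 * a1 * b3 * x * b3 * c * b3 * x * b1 * a1 ∧ a1 * b1 * a1 * b3 * x *
    b3 * c * b3 * x * b1 * a1 * b2 = b2 * a1 * b1 * a1 * b3 * x * b3 * c * b3 * x * b1 * a1 ∧ a1 *
    b1 * a1 * b3 * x * b3 * c * b3 * x * b1 * a1 * b1 = b1 * a1 * b1 * a1 * b3 * x * b3 * c * b3 * x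
    * b1 * a1 ∧ a1 * b1 * a1 * b3 * x * b3 * c * b3 * x * b1 * a1 * b3 = b3 * a1 * b1 * a1 * b3 * x
    * b3 * c * b3 * x * b1 * a1 ∧ a1 * b1 * a1 * b3 * x * b3 * c * b3 * x * b1 * a1 * a1 * a1 * b1 *
    a1 * b3 * x * b3 * c * b3 * x * b1 * a1 * a1 * a1 * b1 * a1 * b3 * x * b3 * c * b3 * x * b1 * a1
    * a1 * a1 * b1 * a1 * b3 * x * b3 * c * b3 * x * b1 * a1 * a1 = 1 ∧ a1 * b1 * a1 * b3 * x * b3 *
    c * b3 * x * b1 * a1 * a3 * a1 * b1 * a1 * b3 * x * b3 * c * b3 * x * b1 * a1 * a3 * a1 * b1 *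
    a1 * b3 * x * b3 * c * b3 * x * b1 * a1 * a3 * a1 * b1 * a1 * b3 * x * b3 * c * b3 * x * b1 * a1
    * a3 = 1 := by
  have := PM.holds NS2_ok NS2_subs (show Emb NS2.m _ from he) (p := (.and (.not (.eq [1,2,7,6,8,6,7,6,1,2,1] [])) (.and (.eq [3,1,2,7,6,8,6,7,6,1,2,1]
      [1,2,7,6,8,6,7,6,1,2,1,3]) (.and (.eq [4,1,2,7,6,8,6,7,6,1,2,1] [1,2,7,6,8,6,7,6,1,2,1,4])
      (.and (.eq [2,1,2,7,6,8,6,7,6,1,2,1] [1,2,7,6,8,6,7,6,1,2,1,2]) (.and (.eq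
      [6,1,2,7,6,8,6,7,6,1,2,1] [1,2,7,6,8,6,7,6,1,2,1,6]) (.and (.eq
      [1,1,2,7,6,8,6,7,6,1,2,1,1,1,2,7,6,8,6,7,6,1,2,1,1,1,2,7,6,8,6,7,6,1,2,1,1,1,2,7,6,8,6,7,6,1,2,1]
      []) (.eq
      [5,1,2,7,6,8,6,7,6,1,2,1,5,1,2,7,6,8,6,7,6,1,2,1,5,1,2,7,6,8,6,7,6,1,2,1,5,1,2,7,6,8,6,7,6,1,2,1]
      [])))))))) (by decide +kernel)
  simp only [Fm.sem, wv_cons, wv_nil, one_mul, upd_apply, Nat.reduceEqDiff, ↓reduceIte, gNS_1, gNS_2, gNS_3, gNS_4, gNS_5, gNS_6, gNS_7, gNS_8, gNS_9, NS2_s0, NS2_s1, NS2_s2, NS2_s3, NS2_s4, NS2_s5, NS2_s6, NS2_s7, NS2_s8, exists_eq_right'] at this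
  exact this

theorem S_y2t3t (he : Emb NS.m (gNS a1 b1 a2 b2 a3 b3 x c d)) :
    ¬ a2 * a3 * c = 1 ∧ a2 * a3 * c * a1 = a1 * a2 * a3 * c ∧ a2 * a3 * c * b1 = b1 * a2 * a3 * c ∧ a2 *
    a3 * c * a2 = a2 * a2 * a3 * c ∧ a2 * a3 * c * a3 = a3 * a2 * a3 * c ∧ a2 * a3 * c * b2 * a2 *
    a3 * c * b2 * a2 * a3 * c * b2 * a2 * a3 * c * b2 = 1 ∧ a2 * a3 * c * b3 * a2 * a3 * c * b3 * a2
    * a3 * c * b3 * a2 * a3 * c * b3 = 1 := by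
  have := PM.holds NS2_ok NS2_subs (show Emb NS2.m _ from he) (p := (.and (.not (.eq [8,5,3] [])) (.and (.eq [1,8,5,3] [8,5,3,1]) (.and (.eq [2,8,5,3] [8,5,3,2]) (.and
      (.eq [3,8,5,3] [8,5,3,3]) (.and (.eq [5,8,5,3] [8,5,3,5]) (.and (.eq
      [4,8,5,3,4,8,5,3,4,8,5,3,4,8,5,3] []) (.eq [6,8,5,3,6,8,5,3,6,8,5,3,6,8,5,3] [])))))))) (by decide +kernel)
  simp only [Fm.sem, wv_cons, wv_nil, one_mul, upd_apply, Nat.reduceEqDiff, ↓reduceIte, gNS_1, gNS_2, gNS_3, gNS_4, gNS_5, gNS_6, gNS_7, gNS_8, gNS_9, NS2_s0, NS2_s1, NS2_s2, NS2_s3, NS2_s4, NS2_s5, NS2_s6, NS2_s7, NS2_s8, exists_eq_right'] at this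
  exact this

theorem S_y2t3f (he : Emb NS.m (gNS a1 b1 a2 b2 a3 b3 x c d)) :
    ¬ a2 * a3 * b3 * a3 * c * b3 * a3 = 1 ∧ a2 * a3 * b3 * a3 * c * b3 * a3 * a1 = a1 * a2 * a3 * b3 *
    a3 * c * b3 * a3 ∧ a2 * a3 * b3 * a3 * c * b3 * a3 * b1 = b1 * a2 * a3 * b3 * a3 * c * b3 * a3 ∧
    a2 * a3 * b3 * a3 * c * b3 * a3 * a2 = a2 * a2 * a3 * b3 * a3 * c * b3 * a3 ∧ a2 * a3 * b3 * a3
    * c * b3 * a3 * b3 = b3 * a2 * a3 * b3 * a3 * c * b3 * a3 ∧ a2 * a3 * b3 * a3 * c * b3 * a3 * b2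
    * a2 * a3 * b3 * a3 * c * b3 * a3 * b2 * a2 * a3 * b3 * a3 * c * b3 * a3 * b2 * a2 * a3 * b3 *
    a3 * c * b3 * a3 * b2 = 1 ∧ a2 * a3 * b3 * a3 * c * b3 * a3 * a3 * a2 * a3 * b3 * a3 * c * b3 *
    a3 * a3 * a2 * a3 * b3 * a3 * c * b3 * a3 * a3 * a2 * a3 * b3 * a3 * c * b3 * a3 * a3 = 1 := by
  have := PM.holds NS2_ok NS2_subs (show Emb NS2.m _ from he) (p := (.and (.not (.eq [5,6,8,5,6,5,3] [])) (.and (.eq [1,5,6,8,5,6,5,3] [5,6,8,5,6,5,3,1]) (.and (.eq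
      [2,5,6,8,5,6,5,3] [5,6,8,5,6,5,3,2]) (.and (.eq [3,5,6,8,5,6,5,3] [5,6,8,5,6,5,3,3]) (.and
      (.eq [6,5,6,8,5,6,5,3] [5,6,8,5,6,5,3,6]) (.and (.eq
      [4,5,6,8,5,6,5,3,4,5,6,8,5,6,5,3,4,5,6,8,5,6,5,3,4,5,6,8,5,6,5,3] []) (.eq
      [5,5,6,8,5,6,5,3,5,5,6,8,5,6,5,3,5,5,6,8,5,6,5,3,5,5,6,8,5,6,5,3] [])))))))) (by decide +kernel)
  simp only [Fm.sem, wv_cons, wv_nil, one_mul, upd_apply, Nat.reduceEqDiff, ↓reduceIte, gNS_1, gNS_2, gNS_3, gNS_4, gNS_5, gNS_6, gNS_7, gNS_8, gNS_9, NS2_s0, NS2_s1, NS2_s2, NS2_s3, NS2_s4, NS2_s5, NS2_s6, NS2_s7, NS2_s8, exists_eq_right'] at this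
  exact this

theorem S_y2f3t (he : Emb NS.m (gNS a1 b1 a2 b2 a3 b3 x c d)) :
    ¬ a2 * b2 * a2 * a3 * c * b2 * a2 = 1 ∧ a2 * b2 * a2 * a3 * c * b2 * a2 * a1 = a1 * a2 * b2 * a2 *
    a3 * c * b2 * a2 ∧ a2 * b2 * a2 * a3 * c * b2 * a2 * b1 = b1 * a2 * b2 * a2 * a3 * c * b2 * a2 ∧
    a2 * b2 * a2 * a3 * c * b2 * a2 * b2 = b2 * a2 * b2 * a2 * a3 * c * b2 * a2 ∧ a2 * b2 * a2 * a3
    * c * b2 * a2 * a3 = a3 * a2 * b2 * a2 * a3 * c * b2 * a2 ∧ a2 * b2 * a2 * a3 * c * b2 * a2 * a2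
    * a2 * b2 * a2 * a3 * c * b2 * a2 * a2 * a2 * b2 * a2 * a3 * c * b2 * a2 * a2 * a2 * b2 * a2 *
    a3 * c * b2 * a2 * a2 = 1 ∧ a2 * b2 * a2 * a3 * c * b2 * a2 * b3 * a2 * b2 * a2 * a3 * c * b2 *
    a2 * b3 * a2 * b2 * a2 * a3 * c * b2 * a2 * b3 * a2 * b2 * a2 * a3 * c * b2 * a2 * b3 = 1 := by
  have := PM.holds NS2_ok NS2_subs (show Emb NS2.m _ from he) (p := (.and (.not (.eq [3,4,8,5,3,4,3] [])) (.and (.eq [1,3,4,8,5,3,4,3] [3,4,8,5,3,4,3,1]) (.and (.eq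
      [2,3,4,8,5,3,4,3] [3,4,8,5,3,4,3,2]) (.and (.eq [4,3,4,8,5,3,4,3] [3,4,8,5,3,4,3,4]) (.and
      (.eq [5,3,4,8,5,3,4,3] [3,4,8,5,3,4,3,5]) (.and (.eq
      [3,3,4,8,5,3,4,3,3,3,4,8,5,3,4,3,3,3,4,8,5,3,4,3,3,3,4,8,5,3,4,3] []) (.eq
      [6,3,4,8,5,3,4,3,6,3,4,8,5,3,4,3,6,3,4,8,5,3,4,3,6,3,4,8,5,3,4,3] [])))))))) (by decide +kernel)
  simp only [Fm.sem, wv_cons, wv_nil, one_mul, upd_apply, Nat.reduceEqDiff, ↓reduceIte, gNS_1, gNS_2, gNS_3, gNS_4, gNS_5, gNS_6, gNS_7, gNS_8, gNS_9, NS2_s0, NS2_s1, NS2_s2, NS2_s3, NS2_s4, NS2_s5, NS2_s6, NS2_s7, NS2_s8, exists_eq_right'] at this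
  exact this

theorem S_y2f3f (he : Emb NS.m (gNS a1 b1 a2 b2 a3 b3 x c d)) :
    ¬ a2 * b2 * a2 * a3 * b3 * a3 * c * b2 * a2 * b3 * a3 = 1 ∧ a2 * b2 * a2 * a3 * b3 * a3 * c * b2 *
    a2 * b3 * a3 * a1 = a1 * a2 * b2 * a2 * a3 * b3 * a3 * c * b2 * a2 * b3 * a3 ∧ a2 * b2 * a2 * a3
    * b3 * a3 * c * b2 * a2 * b3 * a3 * b1 = b1 * a2 * b2 * a2 * a3 * b3 * a3 * c * b2 * a2 * b3 *
    a3 ∧ a2 * b2 * a2 * a3 * b3 * a3 * c * b2 * a2 * b3 * a3 * b2 = b2 * a2 * b2 * a2 * a3 * b3 * a3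
    * c * b2 * a2 * b3 * a3 ∧ a2 * b2 * a2 * a3 * b3 * a3 * c * b2 * a2 * b3 * a3 * b3 = b3 * a2 *
    b2 * a2 * a3 * b3 * a3 * c * b2 * a2 * b3 * a3 ∧ a2 * b2 * a2 * a3 * b3 * a3 * c * b2 * a2 * b3
    * a3 * a2 * a2 * b2 * a2 * a3 * b3 * a3 * c * b2 * a2 * b3 * a3 * a2 * a2 * b2 * a2 * a3 * b3 *
    a3 * c * b2 * a2 * b3 * a3 * a2 * a2 * b2 * a2 * a3 * b3 * a3 * c * b2 * a2 * b3 * a3 * a2 = 1 ∧
    a2 * b2 * a2 * a3 * b3 * a3 * c * b2 * a2 * b3 * a3 * a3 * a2 * b2 * a2 * a3 * b3 * a3 * c * b2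
    * a2 * b3 * a3 * a3 * a2 * b2 * a2 * a3 * b3 * a3 * c * b2 * a2 * b3 * a3 * a3 * a2 * b2 * a2 *
    a3 * b3 * a3 * c * b2 * a2 * b3 * a3 * a3 = 1 := by
  have := PM.holds NS2_ok NS2_subs (show Emb NS2.m _ from he) (p := (.and (.not (.eq [5,6,3,4,8,5,6,5,3,4,3] [])) (.and (.eq [1,5,6,3,4,8,5,6,5,3,4,3]
      [5,6,3,4,8,5,6,5,3,4,3,1]) (.and (.eq [2,5,6,3,4,8,5,6,5,3,4,3] [5,6,3,4,8,5,6,5,3,4,3,2])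
      (.and (.eq [4,5,6,3,4,8,5,6,5,3,4,3] [5,6,3,4,8,5,6,5,3,4,3,4]) (.and (.eq
      [6,5,6,3,4,8,5,6,5,3,4,3] [5,6,3,4,8,5,6,5,3,4,3,6]) (.and (.eq
      [3,5,6,3,4,8,5,6,5,3,4,3,3,5,6,3,4,8,5,6,5,3,4,3,3,5,6,3,4,8,5,6,5,3,4,3,3,5,6,3,4,8,5,6,5,3,4,3]
      []) (.eq
      [5,5,6,3,4,8,5,6,5,3,4,3,5,5,6,3,4,8,5,6,5,3,4,3,5,5,6,3,4,8,5,6,5,3,4,3,5,5,6,3,4,8,5,6,5,3,4,3]
      [])))))))) (by decide +kernel)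
  simp only [Fm.sem, wv_cons, wv_nil, one_mul, upd_apply, Nat.reduceEqDiff, ↓reduceIte, gNS_1, gNS_2, gNS_3, gNS_4, gNS_5, gNS_6, gNS_7, gNS_8, gNS_9, NS2_s0, NS2_s1, NS2_s2, NS2_s3, NS2_s4, NS2_s5, NS2_s6, NS2_s7, NS2_s8, exists_eq_right'] at this
  exact this

theorem S_tr (he : Emb NS.m (gNS a1 b1 a2 b2 a3 b3 x c d)) :
    a1 * a2 * d * a1 * a2 * d = 1 ∧ a1 * a2 * d * a1 * b1 * a1 * a2 * b2 * a2 * d * b1 * a1 * b2 * a2 *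
    a1 * a2 * d = a1 * b1 * a1 * a2 * b2 * a2 * d * b1 * a1 * b2 * a2 * a1 * a2 * d * a1 * b1 * a1 *
    a2 * b2 * a2 * d * b1 * a1 * b2 * a2 ∧ a1 * a2 * d * a2 * b2 * a2 * a3 * c * b2 * a2 = a2 * b2 *
    a2 * a3 * c * b2 * a2 * a1 * a2 * d * a2 * x * c * d ∧ a1 * a2 * d * a2 * x * c * d = a2 * x * c
    * d * a1 * a2 * d ∧ a1 * a2 * d * a1 * a2 * b2 * a2 * d * b2 * a2 = a1 * a2 * b2 * a2 * d * b2 *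
    a2 * a1 * a2 * d ∧ b2 * a1 * a2 * d * b2 = a1 * a2 * d * a1 * a1 * a2 * b2 * a2 * d * b2 * a2 ∧
    a1 * a2 * d * a1 * b1 * a1 * a2 * b2 * a2 * d * b1 * a1 * b2 * a2 * a1 * a2 * d * a1 * a1 * a2 *
    d * a1 * b1 * a1 * a2 * b2 * a2 * d * b1 * a1 * b2 * a2 * a1 * a2 * d = b2 ∧ a1 * a2 * d * a1 *
    b1 * a1 * a2 * b2 * a2 * d * b1 * a1 * b2 * a2 * a1 * a2 * d * a2 * x * c * d * a1 * a2 * d * a1
    * b1 * a1 * a2 * b2 * a2 * d * b1 * a1 * b2 * a2 * a1 * a2 * d = a2 * b2 * a2 * a3 * c * b2 * a2 := by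
  have := PM.holds NS2_ok NS2_subs (show Emb NS2.m _ from he) (p := (.and (.eq [9,3,1,9,3,1] []) (.and (.eq [9,3,1,3,4,1,2,9,3,4,3,1,2,1,9,3,1]
      [3,4,1,2,9,3,4,3,1,2,1,9,3,1,3,4,1,2,9,3,4,3,1,2,1]) (.and (.eq [3,4,8,5,3,4,3,9,3,1]
      [9,8,7,3,9,3,1,3,4,8,5,3,4,3]) (.and (.eq [9,8,7,3,9,3,1] [9,3,1,9,8,7,3]) (.and (.eq
      [3,4,9,3,4,3,1,9,3,1] [9,3,1,3,4,9,3,4,3,1]) (.and (.eq [4,9,3,1,4] [3,4,9,3,4,3,1,1,9,3,1])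
      (.and (.eq [9,3,1,3,4,1,2,9,3,4,3,1,2,1,9,3,1,1,9,3,1,3,4,1,2,9,3,4,3,1,2,1,9,3,1] [4]) (.eq
      [9,3,1,3,4,1,2,9,3,4,3,1,2,1,9,3,1,9,8,7,3,9,3,1,3,4,1,2,9,3,4,3,1,2,1,9,3,1]
      [3,4,8,5,3,4,3]))))))))) (by decide +kernel)
  simp only [Fm.sem, wv_cons, wv_nil, one_mul, upd_apply, Nat.reduceEqDiff, ↓reduceIte, gNS_1, gNS_2, gNS_3, gNS_4, gNS_5, gNS_6, gNS_7, gNS_8, gNS_9, NS2_s0, NS2_s1, NS2_s2, NS2_s3, NS2_s4, NS2_s5, NS2_s6, NS2_s7, NS2_s8, exists_eq_right'] at this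
  exact this

theorem S_gw (he : Emb NS.m (gNS a1 b1 a2 b2 a3 b3 x c d)) :
    a1 * b1 * a1 * a2 * b2 * a2 * d * b1 * a1 * b2 * a2 * d * b1 * b2 * d * a1 * b1 * a1 * a2 * b2 * a2
    * d * b1 * a1 * b2 * a2 * d * b1 * b2 * d = 1 ∧ a1 * b1 * a1 * a2 * b2 * a2 * d * b1 * a1 * b2 *
    a2 * d * b1 * b2 * d * a1 * a1 * b1 * a1 * a2 * b2 * a2 * d * b1 * a1 * b2 * a2 * d * b1 * b2 *
    d = a2 ∧ a1 * b1 * a1 * a2 * b2 * a2 * d * b1 * a1 * b2 * a2 * d * b1 * b2 * d * b1 * a1 * b1 *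
    a1 * a2 * b2 * a2 * d * b1 * a1 * b2 * a2 * d * b1 * b2 * d = b2 ∧ b1 * a1 * b2 * a2 * d * b1 *
    a1 * a2 * a1 * b1 * a1 * a2 * b2 * a2 * d * b1 * a1 * b2 * a2 * d * b1 * b2 * d * a2 = a1 * a2 *
    d * b1 * a1 * b2 * a2 * d * b1 * a1 ∧ b1 * a1 * b2 * a2 * d * b1 * a1 * a2 * a1 * b1 * a1 * a2 *
    b2 * a2 * d * b1 * a1 * b2 * a2 * d * b1 * b2 * d * a2 * a1 * b1 * a2 * b2 = a1 * b1 * a1 * a2 *
    b2 * a2 * d * b1 * a1 * b2 * a2 * b1 * a1 * b2 * a2 * d * b1 * a1 ∧ b1 * a1 * b2 * a2 * d * b1 *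
    a1 * a1 * b1 * a1 * a2 * b2 * a2 * d * b1 * a1 * b2 * a2 * d * b1 * b2 * d = a1 * a2 * b2 * a2 *
    d * b2 * a2 * b1 * a1 * b2 * a2 * d * b1 * a1 ∧ b1 * a1 * b2 * a2 * d * b1 * a1 * a1 * b1 * a1 *
    a2 * b2 * a2 * d * b1 * a1 * b2 * a2 * d * b1 * b2 * d * a1 * b1 * b2 * a2 = a1 * b1 * a1 * a2 *
    d * b1 * a1 * b1 * a1 * b2 * a2 * d * b1 * a1 := by
  have := PM.holds NS2_ok NS2_subs (show Emb NS2.m _ from he) (p := (.and (.eq [9,4,2,9,3,4,1,2,9,3,4,3,1,2,1,9,4,2,9,3,4,1,2,9,3,4,3,1,2,1] []) (.and (.eq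
      [9,4,2,9,3,4,1,2,9,3,4,3,1,2,1,1,9,4,2,9,3,4,1,2,9,3,4,3,1,2,1] [3]) (.and (.eq
      [9,4,2,9,3,4,1,2,9,3,4,3,1,2,1,2,9,4,2,9,3,4,1,2,9,3,4,3,1,2,1] [4]) (.and (.eq
      [3,9,4,2,9,3,4,1,2,9,3,4,3,1,2,1,3,1,2,9,3,4,1,2] [1,2,9,3,4,1,2,9,3,1]) (.and (.eq
      [4,3,2,1,3,9,4,2,9,3,4,1,2,9,3,4,3,1,2,1,3,1,2,9,3,4,1,2]
      [1,2,9,3,4,1,2,3,4,1,2,9,3,4,3,1,2,1]) (.and (.eq
      [9,4,2,9,3,4,1,2,9,3,4,3,1,2,1,1,2,9,3,4,1,2] [1,2,9,3,4,1,2,3,4,9,3,4,3,1]) (.eq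
      [3,4,2,1,9,4,2,9,3,4,1,2,9,3,4,3,1,2,1,1,2,9,3,4,1,2] [1,2,9,3,4,1,2,1,2,9,3,1,2,1])))))))) (by decide +kernel)
  simp only [Fm.sem, wv_cons, wv_nil, one_mul, upd_apply, Nat.reduceEqDiff, ↓reduceIte, gNS_1, gNS_2, gNS_3, gNS_4, gNS_5, gNS_6, gNS_7, gNS_8, gNS_9, NS2_s0, NS2_s1, NS2_s2, NS2_s3, NS2_s4, NS2_s5, NS2_s6, NS2_s7, NS2_s8, exists_eq_right'] at this
  exact this

end Cfsg.Lib.F43
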