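import Cfsg.Agent.F43.Mod

/-! Facts about the model of `W(E₆)`. -/

set_option autoImplicit false
set_option maxRecDepth 100000
set_option linter.unusedSimpArgs false
set_option linter.unusedSectionVars false
set_option linter.unusedVariables false
set_option maxHeartbeats 1000000

namespace Cfsg.Lib.F43

open Subgroup Cfsg.Lib.Spor Cfsg.Lib.Spor.Bulk Cfsg.Lib.Spor.PK Cfsg.Lib.Spor.WF

variable {G : Type*} [Group G] {a1 b1 a2 b2 a3 b3 x c d : G}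

/-- more subgroups -/
@[reducible] def NW2 : PM := { NW with
  SW := [([[1],[2],[3],[4],[6,5],[7,4,2,7,3,4,1,2,7,5]],
    [⟨2, [1344, 769, 1028, 837, 388, 1093, 1604, 581, 900, 1541, 1476, 69, 452, 1285, 325, 1733, 645], [[3, 0, 1,
    0, 2], [2, 3, 3]]⟩,
     ⟨3, [512, 961, 1664, 1408, 1153], [[0, 0, 1]]⟩,
     ⟨1, [1280], []⟩]),
   ([[1],[2],[4,3],[6,5]],
    [⟨2, [1344, 769, 1027, 387, 1603, 899, 1475, 451], [[2], [0, 1, 0]]⟩,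
     ⟨1, [1536, 1280], [[1]]⟩,
     ⟨3, [1664], []⟩]),
   ([[2,1],[4,3],[6,5]],
    [⟨2, [1344, 1026, 768, 386, 898, 1602, 1474, 450], [[1]]⟩,
     ⟨1, [1536, 1280], []⟩]),
   ([[2,1],[4,3],[6,5],[4,7,6,2,7,4,1,2,7,6,3,4,7,5,2,1]],
    [⟨2, [1344, 1026, 643, 768, 386, 579, 898, 1731, 1667, 1602, 1283, 1474, 1091, 1155, 323, 195, 450, 67, 515,
    835, 963, 707, 1539, 1411, 259, 1219], [[1]]⟩,
     ⟨1, [1536, 1280], []⟩]),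
   ([[7],[1],[2],[5,3],[6,4]],
    [⟨3, [1280, 706, 963, 1412, 1539, 644, 1665, 259, 1220, 1732, 835, 1155, 516, 384, 768, 1091, 1024, 1476, 130,
    451, 1602, 900, 1347], [[4, 0, 4, 2, 4, 0, 4, 3, 1, 2, 0, 4, 3, 0, 0, 2, 0], [4, 0, 4, 1, 4, 0, 4]]⟩,
     ⟨2, [384, 1345, 1025, 640, 960, 1728, 1408], [[0, 0], [0, 1, 0, 0, 1, 0, 1]]⟩,
     ⟨10, [1024, 1409], [[1, 0]]⟩,
     ⟨16, [1408], []⟩]),
   ([[2,1],[4,3],[6,5],[7,6,4,2,7,5,3,1]],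
    [⟨2, [1344, 1026, 1219, 768, 386, 1603, 898, 1283, 512, 705, 1091, 835, 1474, 1667, 450, 65, 642, 259, 1408,
    1155, 577, 1538, 195, 1731, 963, 323], [[0, 3, 2, 2, 0], [0, 2, 2, 3, 2, 3]]⟩,
     ⟨1, [1536, 1281, 768, 1152, 513, 1665, 896], [[1, 0, 1]]⟩,
     ⟨10, [1408, 1024], []⟩]),
   ([[2,1],[4,3],[6,5],[1,7,6,4,2,7,5,3]],
    [⟨2, [1344, 1026, 1603, 768, 386, 515, 898, 707, 450, 1475, 835, 1283, 1408, 1665, 1091, 1731, 257, 1539, 963,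
    577, 195, 65, 642, 1155, 1216, 321], [[3, 3, 1, 3], [3, 2, 3, 2, 3, 3, 2, 0]]⟩,
     ⟨1, [1344, 1537, 192, 1281, 1408, 897, 961], [[1, 1, 1, 0]]⟩,
     ⟨3, [896, 1280], []⟩]),
   ([[6,4,7,6,4,2,7,1,2,1],[2,7,6,4,2,7,6,4,2,1]],
    [⟨2, [1536, 1345, 256, 769, 960, 1728, 1153], []⟩]),
   ([[7,6,4,2,7,6,4,1,2,1],[6,4,2,7,6,4,2,7,2,1]],
    [⟨2, [1728, 1345, 256, 769, 960, 1536, 1153], []⟩])] }

instance : NeZero NW2.n := ⟨by decide⟩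

theorem NW2_ok : NW2.ok = true := NW_ok

theorem NW2_subs : NW2.subsOK = true := by decide +kernel

theorem NW2_s0 : sub (gNW a1 b1 a2 b2 a3 b3 x) (NW2.W 0) = gen [a1, b1, a2, b2, a3 * b3, a3 * x * b1 * a1 * b2 * a2 * x * b1 * b2 * x] := by
  change gen (List.map (wv _) [[1],[2],[3],[4],[6,5],[7,4,2,7,3,4,1,2,7,5]]) = _
  simp only [List.map_cons, List.map_nil, wv_cons, wv_nil, one_mul, gNW_1, gNW_2, gNW_3, gNW_4, gNW_5, gNW_6, gNW_7]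

theorem NW2_s1 : sub (gNW a1 b1 a2 b2 a3 b3 x) (NW2.W 1) = gen [a1, b1, a2 * b2, a3 * b3] := by
  change gen (List.map (wv _) [[1],[2],[4,3],[6,5]]) = _
  simp only [List.map_cons, List.map_nil, wv_cons, wv_nil, one_mul, gNW_1, gNW_2, gNW_3, gNW_4, gNW_5, gNW_6, gNW_7]

theorem NW2_s2 : sub (gNW a1 b1 a2 b2 a3 b3 x) (NW2.W 2) = gen [a1 * b1, a2 * b2, a3 * b3] := by
  change gen (List.map (wv _) [[2,1],[4,3],[6,5]]) = _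
  simp only [List.map_cons, List.map_nil, wv_cons, wv_nil, one_mul, gNW_1, gNW_2, gNW_3, gNW_4, gNW_5, gNW_6, gNW_7]

theorem NW2_s3 : sub (gNW a1 b1 a2 b2 a3 b3 x) (NW2.W 3) = gen [a1 * b1, a2 * b2, a3 * b3, a1 * b1 * a3 * x * b2 * a2 * b3 * x * b1 * a1 * b2 * x * b1 * b3 * x * b2] := by
  change gen (List.map (wv _) [[2,1],[4,3],[6,5],[4,7,6,2,7,4,1,2,7,6,3,4,7,5,2,1]]) = _
  simp only [List.map_cons, List.map_nil, wv_cons, wv_nil, one_mul, gNW_1, gNW_2, gNW_3, gNW_4, gNW_5, gNW_6, gNW_7]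

theorem NW2_s4 : sub (gNW a1 b1 a2 b2 a3 b3 x) (NW2.W 4) = gen [x, a1, b1, a2 * a3, b2 * b3] := by
  change gen (List.map (wv _) [[7],[1],[2],[5,3],[6,4]]) = _
  simp only [List.map_cons, List.map_nil, wv_cons, wv_nil, one_mul, gNW_1, gNW_2, gNW_3, gNW_4, gNW_5, gNW_6, gNW_7]

theorem NW2_s5 : sub (gNW a1 b1 a2 b2 a3 b3 x) (NW2.W 5) = gen [a1 * b1, a2 * b2, a3 * b3, a1 * a2 * a3 * x * b1 * b2 * b3 * x] := by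
  change gen (List.map (wv _) [[2,1],[4,3],[6,5],[7,6,4,2,7,5,3,1]]) = _
  simp only [List.map_cons, List.map_nil, wv_cons, wv_nil, one_mul, gNW_1, gNW_2, gNW_3, gNW_4, gNW_5, gNW_6, gNW_7]

theorem NW2_s6 : sub (gNW a1 b1 a2 b2 a3 b3 x) (NW2.W 6) = gen [a1 * b1, a2 * b2, a3 * b3, a2 * a3 * x * b1 * b2 * b3 * x * a1] := by
  change gen (List.map (wv _) [[2,1],[4,3],[6,5],[1,7,6,4,2,7,5,3]]) = _
  simp only [List.map_cons, List.map_nil, wv_cons, wv_nil, one_mul, gNW_1, gNW_2, gNW_3, gNW_4, gNW_5, gNW_6, gNW_7]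

theorem NW2_s7 : sub (gNW a1 b1 a2 b2 a3 b3 x) (NW2.W 7) = gen [a1 * b1 * a1 * x * b1 * b2 * b3 * x * b2 * b3, a1 * b1 * b2 * b3 * x * b1 * b2 * b3 * x * b1] := by
  change gen (List.map (wv _) [[6,4,7,6,4,2,7,1,2,1],[2,7,6,4,2,7,6,4,2,1]]) = _
  simp only [List.map_cons, List.map_nil, wv_cons, wv_nil, one_mul, gNW_1, gNW_2, gNW_3, gNW_4, gNW_5, gNW_6, gNW_7]

theorem NW2_s8 : sub (gNW a1 b1 a2 b2 a3 b3 x) (NW2.W 8) = gen [a1 * b1 * a1 * b2 * b3 * x * b1 * b2 * b3 * x, a1 * b1 * x * b1 * b2 * b3 * x * b1 * b2 * b3] := by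
  change gen (List.map (wv _) [[7,6,4,2,7,6,4,1,2,1],[6,4,2,7,6,4,2,7,2,1]]) = _
  simp only [List.map_cons, List.map_nil, wv_cons, wv_nil, one_mul, gNW_1, gNW_2, gNW_3, gNW_4, gNW_5, gNW_6, gNW_7]

theorem NW2_crd_C3 (he : Emb NW.m (gNW a1 b1 a2 b2 a3 b3 x)) : Nat.card (gen [a1, b1, a2, b2, a3 * b3, a3 * x * b1 * a1 * b2 * a2 * x * b1 * b2 * x] : Subgroup G) = 216 :=
  NW2_s0 (G := G) ▸ (PM.card_of_emb NW2_ok NW2_subs (show Emb NW2.m _ from he) 0).trans (by decide +kernel)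

theorem NW2_crd_S (he : Emb NW.m (gNW a1 b1 a2 b2 a3 b3 x)) : Nat.card (gen [a1 * b1, a2 * b2, a3 * b3, a1 * b1 * a3 * x * b2 * a2 * b3 * x * b1 * a1 * b2 * x * b1 * b3 * x * b2] : Subgroup G) = 81 :=
  NW2_s3 (G := G) ▸ (PM.card_of_emb NW2_ok NW2_subs (show Emb NW2.m _ from he) 3).trans (by decide +kernel)

theorem NW2_crd_CS (he : Emb NW.m (gNW a1 b1 a2 b2 a3 b3 x)) : Nat.card (gen [x, a1, b1, a2 * a3, b2 * b3] : Subgroup G) = 1152 :=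
  NW2_s4 (G := G) ▸ (PM.card_of_emb NW2_ok NW2_subs (show Emb NW2.m _ from he) 4).trans (by decide +kernel)

theorem NW2_crd_Z2 (he : Emb NW.m (gNW a1 b1 a2 b2 a3 b3 x)) : Nat.card (gen [a1 * b1, a2 * b2, a3 * b3, a1 * a2 * a3 * x * b1 * b2 * b3 * x] : Subgroup G) = 648 :=
  NW2_s5 (G := G) ▸ (PM.card_of_emb NW2_ok NW2_subs (show Emb NW2.m _ from he) 5).trans (by decide +kernel)

theorem NW2_crd_Z1 (he : Emb NW.m (gNW a1 b1 a2 b2 a3 b3 x)) : Nat.card (gen [a1 * b1, a2 * b2, a3 * b3, a2 * a3 * x * b1 * b2 * b3 * x * a1] : Subgroup G) = 648 :=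
  NW2_s6 (G := G) ▸ (PM.card_of_emb NW2_ok NW2_subs (show Emb NW2.m _ from he) 6).trans (by decide +kernel)

theorem NW2_crd_P1 (he : Emb NW.m (gNW a1 b1 a2 b2 a3 b3 x)) : Nat.card (gen [a1 * b1 * a1 * x * b1 * b2 * b3 * x * b2 * b3, a1 * b1 * b2 * b3 * x * b1 * b2 * b3 * x * b1] : Subgroup G) = 8 :=
  NW2_s7 (G := G) ▸ (PM.card_of_emb NW2_ok NW2_subs (show Emb NW2.m _ from he) 7).trans (by decide +kernel)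

theorem NW_crd_T (he : Emb NW.m (gNW a1 b1 a2 b2 a3 b3 x)) : Nat.card (gen [a1, b1, a2, b2, a3, b3, x] : Subgroup G) = 51840 :=
  gNW_s0 (G := G) ▸ (PM.card_of_emb NW_ok NW_subs he 0).trans (by decide +kernel)

theorem W_c3 (he : Emb NW.m (gNW a1 b1 a2 b2 a3 b3 x)) :
    Nat.card ↥(gen [a1, b1, a2, b2, a3, b3, x] ⊓ centralizer {a3 * b3}) = 216 := by
  have := PM.cent_of_emb NW_ok he (W := NW.W 0) (cert := [⟨1, [1539, 1733, 1282, 325, 966, 1092, 774, 645, 198, 836, 257, 454, 129, 580, 705, 1411, 1152, 897, 1605,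
    1344, 1664, 1219, 1472, 1029, 515, 390], [[3, 2, 6, 1, 3, 6, 5, 0, 1, 6, 4, 5, 3, 5, 6, 5, 3], [3, 5, 6,
    5, 3, 0]]⟩,
     ⟨17, [1280, 1152, 1344, 257, 129, 704, 960, 1664, 897, 1472, 1729, 1536, 448, 192, 769], [[0, 0, 0, 1, 0, 1,
    0, 0, 0, 0, 1, 0, 0], [0, 0, 0, 1, 0, 0, 1, 0, 1, 0]]⟩,
     ⟨27, [448, 1665, 960, 1473, 897, 257, 192, 1152, 705], [[1, 1, 0, 0, 1, 1, 0], [1, 1, 0, 1, 0, 1, 1]]⟩,
     ⟨2, [1344, 769], [[0, 1, 0, 1, 0], [1]]⟩,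
     ⟨14, [], [[0], [1]]⟩,
     ⟨16, [], [[0], [1]]⟩,
     ⟨5, [640], [[1]]⟩,
     ⟨24, [], [[0]]⟩,
     ⟨13, [], [[0]]⟩,
     ⟨6, [1600], []⟩])
    (es := [1, 2]) (x := [6,5]) (N := 51840) (c := 216) (ncs := [])
    ((PM.card_sub NW_ok NW_subs 0).trans (by decide +kernel)) (by decide +kernel)
  simpa only [wv_cons, wv_nil, one_mul, List.forall_mem_cons, List.not_mem_nil, IsEmpty.forall_iff, implies_true, and_true, gNW_1, gNW_2, gNW_3, gNW_4, gNW_5, gNW_6, gNW_7, gNW_s0, exists_eq_right'] using this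

theorem W_cs (he : Emb NW.m (gNW a1 b1 a2 b2 a3 b3 x)) :
    Nat.card ↥(gen [a1, b1, a2, b2, a3, b3, x] ⊓ centralizer {a1 * a2 * b2 * a2 * a3 * b3 * a3 * x * b2 * a2 * b3 * a3 * x * b2 * b3 * x}) = 1152 := by
  have := PM.cent_of_emb NW_ok he (W := NW.W 0) (cert := [⟨2, [1344, 769, 900, 1476, 452, 1734, 1029, 389, 1605, 1094, 323, 69, 518, 1222, 835, 642, 1541, 1667, 1409,
    707, 578, 1285, 966, 1154, 195, 258], [[0, 1, 0, 1, 6, 3, 5, 6, 2, 3, 1, 6, 5, 4, 0], [5, 6]]⟩,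
     ⟨4, [1472, 704, 1217, 448, 1088, 385, 576, 1601, 832], [[0, 0, 0, 1, 0, 1, 0, 0], [0, 1, 0, 1, 1, 0, 0, 0]]⟩,
     ⟨3, [1281, 896, 1409, 1664, 513, 1024, 641], [[1, 1, 0, 0, 1], [0]]⟩,
     ⟨7, [1600, 832, 1217], [[0, 0, 1, 1, 0], [0, 1, 0]]⟩,
     ⟨6, [], [[0], [1]]⟩,
     ⟨8, [], [[0], [1]]⟩,
     ⟨10, [1408, 1025], [[0, 1]]⟩,
     ⟨13, [], [[0]]⟩,
     ⟨11, [], [[0]]⟩,
     ⟨14, [], [[0]]⟩,
     ⟨12, [], [[0]]⟩,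
     ⟨15, [], [[0]]⟩,
     ⟨16, [1408], []⟩])
    (es := [1]) (x := [7,6,4,7,5,6,3,4,7,5,6,5,3,4,3,1]) (N := 51840) (c := 1152) (ncs := [])
    ((PM.card_sub NW_ok NW_subs 0).trans (by decide +kernel)) (by decide +kernel)
  simpa only [wv_cons, wv_nil, one_mul, List.forall_mem_cons, List.not_mem_nil, IsEmpty.forall_iff, implies_true, and_true, gNW_1, gNW_2, gNW_3, gNW_4, gNW_5, gNW_6, gNW_7, gNW_s0, exists_eq_right'] using this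

theorem W_cz2 (he : Emb NW.m (gNW a1 b1 a2 b2 a3 b3 x)) :
    Nat.card ↥(gen [a1, b1, a2, b2, a3, b3, x] ⊓ centralizer {a1 * b1 * a2 * b2 * a3 * b3}) = 648 := by
  have := PM.cent_of_emb NW_ok he (W := NW.W 0) (cert := [⟨1, [1539, 1733, 1282, 325, 966, 1092, 774, 645, 198, 836, 257, 454, 129, 580, 705, 1411, 1152, 897, 1605,
    1344, 1664, 1219, 1472, 1029, 515, 390], [[3, 2, 6, 1, 3, 6, 5, 0, 1, 6, 4, 5, 4], [2, 1]]⟩,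
     ⟨9, [512, 833, 1216, 320, 1409, 384, 641, 1600, 1024], [[0, 1, 0, 1, 1, 0, 1, 0, 1, 0, 0, 1, 0, 1], [1, 0, 0,
    1, 0, 0, 1, 0, 1, 0, 1, 0, 1, 0, 0, 0, 1, 0, 0, 0]]⟩,
     ⟨5, [], [[0], [1]]⟩,
     ⟨2, [1152, 1729, 960, 256, 1536, 769, 1344], [[0, 0, 0, 1], [0, 1, 0, 0, 0]]⟩,
     ⟨7, [704, 1472, 1089], [[1, 0, 0], [0, 1, 0, 1, 0]]⟩,
     ⟨6, [], [[0], [1]]⟩,
     ⟨3, [], [[0], [1]]⟩,
     ⟨8, [], [[0], [1]]⟩,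
     ⟨4, [], [[0], [1]]⟩,
     ⟨10, [1024, 1409], [[1, 0]]⟩,
     ⟨24, [1152], []⟩])
    (es := [1, 2]) (x := [6,5,4,3,2,1]) (N := 51840) (c := 648) (ncs := [])
    ((PM.card_sub NW_ok NW_subs 0).trans (by decide +kernel)) (by decide +kernel)
  simpa only [wv_cons, wv_nil, one_mul, List.forall_mem_cons, List.not_mem_nil, IsEmpty.forall_iff, implies_true, and_true, gNW_1, gNW_2, gNW_3, gNW_4, gNW_5, gNW_6, gNW_7, gNW_s0, exists_eq_right'] using this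

theorem W_cz1 (he : Emb NW.m (gNW a1 b1 a2 b2 a3 b3 x)) :
    Nat.card ↥(gen [a1, b1, a2, b2, a3, b3, x] ⊓ centralizer {a1 * b1 * b2 * a2 * b3 * a3}) = 648 := by
  have := PM.cent_of_emb NW_ok he (W := NW.W 0) (cert := [⟨1, [1539, 1733, 1282, 325, 966, 1092, 774, 645, 198, 836, 257, 454, 129, 580, 705, 1411, 1152, 897, 1605,
    1344, 1664, 1219, 1472, 1029, 515, 390], [[5, 4, 6, 1, 5, 6, 3, 0, 1, 6, 2, 3, 0], [6, 1]]⟩,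
     ⟨5, [1216, 832, 385, 512, 1409, 576, 1601, 1024, 640], [[0, 0, 1, 0, 0, 0, 0, 0, 0], [0, 0, 0, 1, 0, 1, 1,
    0]]⟩,
     ⟨9, [], [[0], [1]]⟩,
     ⟨2, [1344, 257, 1728, 1152, 769, 1536, 961], [[0, 1, 0, 0], [1, 0, 1, 0, 0, 1]]⟩,
     ⟨25, [832, 384, 1216], [[0, 1, 0, 0], [0, 0, 0, 1, 0]]⟩,
     ⟨23, [], [[0], [1]]⟩,
     ⟨3, [896, 1281], [[1, 0]]⟩,
     ⟨18, [768], []⟩])
    (es := [1, 2]) (x := [5,6,3,4,2,1]) (N := 51840) (c := 648) (ncs := [])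
    ((PM.card_sub NW_ok NW_subs 0).trans (by decide +kernel)) (by decide +kernel)
  simpa only [wv_cons, wv_nil, one_mul, List.forall_mem_cons, List.not_mem_nil, IsEmpty.forall_iff, implies_true, and_true, gNW_1, gNW_2, gNW_3, gNW_4, gNW_5, gNW_6, gNW_7, gNW_s0, exists_eq_right'] using this

theorem W_cb (he : Emb NW.m (gNW a1 b1 a2 b2 a3 b3 x)) :
    Nat.card ↥(gen [a1, b1, a2, b2, a3, b3, x] ⊓ centralizer {a1 * x}) = 192 := by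
  have := PM.cent_of_emb NW_ok he (W := NW.W 0) (cert := [⟨2, [1344, 769, 900, 1476, 452, 1734, 1029, 389, 1605, 1094, 323, 69, 518, 1222, 835, 642, 1541, 1667, 1409,
    707, 578, 1285, 966, 1154, 195, 258], [[0, 4, 5, 6, 1, 3, 6, 5, 2, 3, 6, 1, 5], [1, 6, 3, 5, 6, 2, 3, 1,
    6, 5, 4, 0, 6]]⟩,
     ⟨21, [1152, 897, 1280, 641, 1728, 1665, 1024, 512, 961, 1408, 321, 192, 769, 1536, 65], [[0, 0, 0, 0, 0, 1, 1,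
    0, 0], [1, 1, 1, 1]]⟩,
     ⟨3, [1281, 1728, 1409, 769, 64, 320, 640, 1537, 960], [[1, 1, 0, 1, 1, 0, 1, 1], [1, 0, 1, 0, 1, 0, 1]]⟩,
     ⟨20, [960, 641, 1728, 65, 1408], [[1, 0]]⟩,
     ⟨4, [], [[0]]⟩,
     ⟨18, [], [[0]]⟩,
     ⟨6, [], [[0]]⟩,
     ⟨8, [], [[0]]⟩,
     ⟨7, [], [[0]]⟩,
     ⟨17, [], [[0]]⟩,
     ⟨11, [1472], []⟩])
    (es := [1]) (x := [7,1]) (N := 51840) (c := 192) (ncs := [])
    ((PM.card_sub NW_ok NW_subs 0).trans (by decide +kernel)) (by decide +kernel)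
  simpa only [wv_cons, wv_nil, one_mul, List.forall_mem_cons, List.not_mem_nil, IsEmpty.forall_iff, implies_true, and_true, gNW_1, gNW_2, gNW_3, gNW_4, gNW_5, gNW_6, gNW_7, gNW_s0, exists_eq_right'] using this

theorem W_g3 (he : Emb NW.m (gNW a1 b1 a2 b2 a3 b3 x)) :
    a1 * a3 * b3 = a3 * b3 * a1 ∧ b1 * a3 * b3 = a3 * b3 * b1 ∧ a2 * a3 * b3 = a3 * b3 * a2 ∧ b2 * a3 *
    b3 = a3 * b3 * b2 ∧ a3 * x * b1 * a1 * b2 * a2 * x * b1 * b2 * x * a3 * b3 = a3 * b3 * a3 * x *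
    b1 * a1 * b2 * a2 * x * b1 * b2 * x := by
  have := PM.holds NW2_ok NW2_subs (show Emb NW2.m _ from he) (p := (.and (.eq [6,5,1] [1,6,5]) (.and (.eq [6,5,2] [2,6,5]) (.and (.eq [6,5,3] [3,6,5]) (.and (.eq
      [6,5,4] [4,6,5]) (.eq [6,5,7,4,2,7,3,4,1,2,7,5] [7,4,2,7,3,4,1,2,7,5,6,5])))))) (by decide +kernel)
  simp only [Fm.sem, wv_cons, wv_nil, one_mul, upd_apply, Nat.reduceEqDiff, ↓reduceIte, gNW_1, gNW_2, gNW_3, gNW_4, gNW_5, gNW_6, gNW_7, NW2_s0, NW2_s1, NW2_s2, NW2_s3, NW2_s4, NW2_s5, NW2_s6, NW2_s7, NW2_s8, exists_eq_right'] at this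
  exact this

theorem W_gs (he : Emb NW.m (gNW a1 b1 a2 b2 a3 b3 x)) :
    x * a1 * a2 * b2 * a2 * a3 * b3 * a3 * x * b2 * a2 * b3 * a3 * x * b2 * b3 * x = a1 * a2 * b2 * a2 *
    a3 * b3 * a3 * x * b2 * a2 * b3 * a3 * x * b2 * b3 * x * x ∧ a1 * a1 * a2 * b2 * a2 * a3 * b3 *
    a3 * x * b2 * a2 * b3 * a3 * x * b2 * b3 * x = a1 * a2 * b2 * a2 * a3 * b3 * a3 * x * b2 * a2 *
    b3 * a3 * x * b2 * b3 * x * a1 ∧ b1 * a1 * a2 * b2 * a2 * a3 * b3 * a3 * x * b2 * a2 * b3 * a3 *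
    x * b2 * b3 * x = a1 * a2 * b2 * a2 * a3 * b3 * a3 * x * b2 * a2 * b3 * a3 * x * b2 * b3 * x *
    b1 ∧ a2 * a3 * a1 * a2 * b2 * a2 * a3 * b3 * a3 * x * b2 * a2 * b3 * a3 * x * b2 * b3 * x = a1 *
    a2 * b2 * a2 * a3 * b3 * a3 * x * b2 * a2 * b3 * a3 * x * b2 * b3 * x * a2 * a3 ∧ b2 * b3 * a1 *
    a2 * b2 * a2 * a3 * b3 * a3 * x * b2 * a2 * b3 * a3 * x * b2 * b3 * x = a1 * a2 * b2 * a2 * a3 *
    b3 * a3 * x * b2 * a2 * b3 * a3 * x * b2 * b3 * x * b2 * b3 := by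
  have := PM.holds NW2_ok NW2_subs (show Emb NW2.m _ from he) (p := (.and (.eq [7,6,4,7,5,6,3,4,7,5,6,5,3,4,3,1,7] [7,7,6,4,7,5,6,3,4,7,5,6,5,3,4,3,1]) (.and (.eq
      [7,6,4,7,5,6,3,4,7,5,6,5,3,4,3,1,1] [1,7,6,4,7,5,6,3,4,7,5,6,5,3,4,3,1]) (.and (.eq
      [7,6,4,7,5,6,3,4,7,5,6,5,3,4,3,1,2] [2,7,6,4,7,5,6,3,4,7,5,6,5,3,4,3,1]) (.and (.eq
      [7,6,4,7,5,6,3,4,7,5,6,5,3,4,3,1,5,3] [5,3,7,6,4,7,5,6,3,4,7,5,6,5,3,4,3,1]) (.eq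
      [7,6,4,7,5,6,3,4,7,5,6,5,3,4,3,1,6,4] [6,4,7,6,4,7,5,6,3,4,7,5,6,5,3,4,3,1])))))) (by decide +kernel)
  simp only [Fm.sem, wv_cons, wv_nil, one_mul, upd_apply, Nat.reduceEqDiff, ↓reduceIte, gNW_1, gNW_2, gNW_3, gNW_4, gNW_5, gNW_6, gNW_7, NW2_s0, NW2_s1, NW2_s2, NW2_s3, NW2_s4, NW2_s5, NW2_s6, NW2_s7, NW2_s8, exists_eq_right'] at this
  exact this

theorem W_gz2 (he : Emb NW.m (gNW a1 b1 a2 b2 a3 b3 x)) :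
    a1 * b1 * a1 * b1 * a2 * b2 * a3 * b3 = a1 * b1 * a2 * b2 * a3 * b3 * a1 * b1 ∧ a2 * b2 * a1 * b1 *
    a2 * b2 * a3 * b3 = a1 * b1 * a2 * b2 * a3 * b3 * a2 * b2 ∧ a3 * b3 * a1 * b1 * a2 * b2 * a3 *
    b3 = a1 * b1 * a2 * b2 * a3 * b3 * a3 * b3 ∧ a1 * a2 * a3 * x * b1 * b2 * b3 * x * a1 * b1 * a2
    * b2 * a3 * b3 = a1 * b1 * a2 * b2 * a3 * b3 * a1 * a2 * a3 * x * b1 * b2 * b3 * x := by
  have := PM.holds NW2_ok NW2_subs (show Emb NW2.m _ from he) (p := (.and (.eq [6,5,4,3,2,1,2,1] [2,1,6,5,4,3,2,1]) (.and (.eq [6,5,4,3,2,1,4,3] [4,3,6,5,4,3,2,1])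
      (.and (.eq [6,5,4,3,2,1,6,5] [6,5,6,5,4,3,2,1]) (.eq [6,5,4,3,2,1,7,6,4,2,7,5,3,1]
      [7,6,4,2,7,5,3,1,6,5,4,3,2,1]))))) (by decide +kernel)
  simp only [Fm.sem, wv_cons, wv_nil, one_mul, upd_apply, Nat.reduceEqDiff, ↓reduceIte, gNW_1, gNW_2, gNW_3, gNW_4, gNW_5, gNW_6, gNW_7, NW2_s0, NW2_s1, NW2_s2, NW2_s3, NW2_s4, NW2_s5, NW2_s6, NW2_s7, NW2_s8, exists_eq_right'] at this
  exact this

theorem W_gz1 (he : Emb NW.m (gNW a1 b1 a2 b2 a3 b3 x)) :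
    a1 * b1 * a1 * b1 * b2 * a2 * b3 * a3 = a1 * b1 * b2 * a2 * b3 * a3 * a1 * b1 ∧ a2 * b2 * a1 * b1 *
    b2 * a2 * b3 * a3 = a1 * b1 * b2 * a2 * b3 * a3 * a2 * b2 ∧ a3 * b3 * a1 * b1 * b2 * a2 * b3 *
    a3 = a1 * b1 * b2 * a2 * b3 * a3 * a3 * b3 ∧ a2 * a3 * x * b1 * b2 * b3 * x * a1 * a1 * b1 * b2
    * a2 * b3 * a3 = a1 * b1 * b2 * a2 * b3 * a3 * a2 * a3 * x * b1 * b2 * b3 * x * a1 := by
  have := PM.holds NW2_ok NW2_subs (show Emb NW2.m _ from he) (p := (.and (.eq [5,6,3,4,2,1,2,1] [2,1,5,6,3,4,2,1]) (.and (.eq [5,6,3,4,2,1,4,3] [4,3,5,6,3,4,2,1])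
      (.and (.eq [5,6,3,4,2,1,6,5] [6,5,5,6,3,4,2,1]) (.eq [5,6,3,4,2,1,1,7,6,4,2,7,5,3]
      [1,7,6,4,2,7,5,3,5,6,3,4,2,1]))))) (by decide +kernel)
  simp only [Fm.sem, wv_cons, wv_nil, one_mul, upd_apply, Nat.reduceEqDiff, ↓reduceIte, gNW_1, gNW_2, gNW_3, gNW_4, gNW_5, gNW_6, gNW_7, NW2_s0, NW2_s1, NW2_s2, NW2_s3, NW2_s4, NW2_s5, NW2_s6, NW2_s7, NW2_s8, exists_eq_right'] at this
  exact this

theorem W_d (he : Emb NW.m (gNW a1 b1 a2 b2 a3 b3 x)) :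
    ∀ g ∈ gen [a1, b1, a2, b2, a3 * b3, a3 * x * b1 * a1 * b2 * a2 * x * b1 * b2 * x], g * a2 * b2 = a2
    * b2 * g → g ∈ gen [a1, b1, a2 * b2, a3 * b3] := by
  have := PM.holds NW2_ok NW2_subs (show Emb NW2.m _ from he) (p := (.all 0 40 (.imp (.eq [4,3,40] [40,4,3]) (.ex 1 41 (.eq [40] [41]))))) (by decide +kernel)
  simp only [Fm.sem, wv_cons, wv_nil, one_mul, upd_apply, Nat.reduceEqDiff, ↓reduceIte, gNW_1, gNW_2, gNW_3, gNW_4, gNW_5, gNW_6, gNW_7, NW2_s0, NW2_s1, NW2_s2, NW2_s3, NW2_s4, NW2_s5, NW2_s6, NW2_s7, NW2_s8, exists_eq_right'] at this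
  exact this

theorem W_s3 (he : Emb NW.m (gNW a1 b1 a2 b2 a3 b3 x)) :
    ∀ y ∈ gen [a1 * b1, a2 * b2, a3 * b3, a1 * b1 * a3 * x * b2 * a2 * b3 * x * b1 * a1 * b2 * x * b1 *
    b3 * x * b2], y * y * y = 1 → (∃ k ∈ gen [a1 * b1 * a1 * b2 * b3 * x * b1 * b2 * b3 * x, a1 * b1
    * x * b1 * b2 * b3 * x * b1 * b2 * b3], ∃ j ∈ gen [a1 * b1, a2 * b2, a3 * b3], k * y = j * k) := by
  have := PM.holds NW2_ok NW2_subs (show Emb NW2.m _ from he) (p := (.all 3 40 (.imp (.eq [40,40,40] []) (.ex 8 41 (.ex 2 42 (.eq [40,41] [41,42])))))) (by decide +kernel)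
  simp only [Fm.sem, wv_cons, wv_nil, one_mul, upd_apply, Nat.reduceEqDiff, ↓reduceIte, gNW_1, gNW_2, gNW_3, gNW_4, gNW_5, gNW_6, gNW_7, NW2_s0, NW2_s1, NW2_s2, NW2_s3, NW2_s4, NW2_s5, NW2_s6, NW2_s7, NW2_s8, exists_eq_right'] at this
  exact this

theorem W_sj (he : Emb NW.m (gNW a1 b1 a2 b2 a3 b3 x)) :
    ∀ y ∈ gen [a1 * b1, a2 * b2, a3 * b3, a1 * b1 * a3 * x * b2 * a2 * b3 * x * b1 * a1 * b2 * x * b1 *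
    b3 * x * b2], y * a1 * b1 * y * b1 * a1 = a1 * b1 * y * b1 * a1 * y → y ∈ gen [a1 * b1, a2 * b2,
    a3 * b3] := by
  have := PM.holds NW2_ok NW2_subs (show Emb NW2.m _ from he) (p := (.all 3 40 (.imp (.eq [1,2,40,2,1,40] [40,1,2,40,2,1]) (.ex 2 41 (.eq [40] [41]))))) (by decide +kernel)
  simp only [Fm.sem, wv_cons, wv_nil, one_mul, upd_apply, Nat.reduceEqDiff, ↓reduceIte, gNW_1, gNW_2, gNW_3, gNW_4, gNW_5, gNW_6, gNW_7, NW2_s0, NW2_s1, NW2_s2, NW2_s3, NW2_s4, NW2_s5, NW2_s6, NW2_s7, NW2_s8, exists_eq_right'] at this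
  exact this

theorem W_sn (he : Emb NW.m (gNW a1 b1 a2 b2 a3 b3 x)) :
    ∀ u ∈ gen [a1 * b1, a2 * b2, a3 * b3, a1 * b1 * a3 * x * b2 * a2 * b3 * x * b1 * a1 * b2 * x * b1 *
    b3 * x * b2], u * u * u * u * u * u * u * u * u = 1 ∧ (∀ y ∈ gen [a1 * b1, a2 * b2, a3 * b3], y
    * u * y * u * u * u * u * u * u * u * u = u * y * u * u * u * u * u * u * u * u * y) := by
  have := PM.holds NW2_ok NW2_subs (show Emb NW2.m _ from he) (p := (.all 3 40 (.and (.eq [40,40,40,40,40,40,40,40,40] []) (.all 2 41 (.eq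
      [40,40,40,40,40,40,40,40,41,40,41] [41,40,40,40,40,40,40,40,40,41,40]))))) (by decide +kernel)
  simp only [Fm.sem, wv_cons, wv_nil, one_mul, upd_apply, Nat.reduceEqDiff, ↓reduceIte, gNW_1, gNW_2, gNW_3, gNW_4, gNW_5, gNW_6, gNW_7, NW2_s0, NW2_s1, NW2_s2, NW2_s3, NW2_s4, NW2_s5, NW2_s6, NW2_s7, NW2_s8, exists_eq_right'] at this
  exact this

theorem W_sw (he : Emb NW.m (gNW a1 b1 a2 b2 a3 b3 x)) :
    a1 * a2 * b2 * a2 * a3 * b3 * a3 * x * b2 * a2 * b3 * a3 * x * b2 * b3 * x * a1 * a2 * b2 * a2 * a3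
    * b3 * a3 * x * b2 * a2 * b3 * a3 * x * b2 * b3 * x = 1 ∧ a1 * a2 * b2 * a2 * a3 * b3 * a3 * x *
    b2 * a2 * b3 * a3 * x * b2 * b3 * x * a2 * b2 = a3 * b3 * a1 * a2 * b2 * a2 * a3 * b3 * a3 * x *
    b2 * a2 * b3 * a3 * x * b2 * b3 * x ∧ a1 * a2 * b2 * a2 * a3 * b3 * a3 * x * b2 * a2 * b3 * a3 *
    x * b2 * b3 * x * a3 * b3 = a2 * b2 * a1 * a2 * b2 * a2 * a3 * b3 * a3 * x * b2 * a2 * b3 * a3 *
    x * b2 * b3 * x := by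
  have := PM.holds NW2_ok NW2_subs (show Emb NW2.m _ from he) (p := (.and (.eq [7,6,4,7,5,6,3,4,7,5,6,5,3,4,3,1,7,6,4,7,5,6,3,4,7,5,6,5,3,4,3,1] []) (.and (.eq
      [4,3,7,6,4,7,5,6,3,4,7,5,6,5,3,4,3,1] [7,6,4,7,5,6,3,4,7,5,6,5,3,4,3,1,6,5]) (.eq
      [6,5,7,6,4,7,5,6,3,4,7,5,6,5,3,4,3,1] [7,6,4,7,5,6,3,4,7,5,6,5,3,4,3,1,4,3])))) (by decide +kernel)
  simp only [Fm.sem, wv_cons, wv_nil, one_mul, upd_apply, Nat.reduceEqDiff, ↓reduceIte, gNW_1, gNW_2, gNW_3, gNW_4, gNW_5, gNW_6, gNW_7, NW2_s0, NW2_s1, NW2_s2, NW2_s3, NW2_s4, NW2_s5, NW2_s6, NW2_s7, NW2_s8, exists_eq_right'] at this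
  exact this

theorem W_su (he : Emb NW.m (gNW a1 b1 a2 b2 a3 b3 x)) :
    ∀ u ∈ gen [a1, b1, a2 * b2, a3 * b3], u * a1 * a2 * b2 * a2 * a3 * b3 * a3 * x * b2 * a2 * b3 * a3 *
    x * b2 * b3 * x * u * a1 * a2 * b2 * a2 * a3 * b3 * a3 * x * b2 * a2 * b3 * a3 * x * b2 * b3 * x
    = 1 → u * a1 * a2 * b2 * a2 * a3 * b3 * a3 * x * b2 * a2 * b3 * a3 * x * b2 * b3 * x * a1 * b1 =
    a1 * b1 * u * a1 * a2 * b2 * a2 * a3 * b3 * a3 * x * b2 * a2 * b3 * a3 * x * b2 * b3 * x → u *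
    a1 * a2 * b2 * a2 * a3 * b3 * a3 * x * b2 * a2 * b3 * a3 * x * b2 * b3 * x * a2 * u * a1 * a2 *
    b2 * a2 * a3 * b3 * a3 * x * b2 * a2 * b3 * a3 * x * b2 * b3 * x = a3 → u = 1 := by
  have := PM.holds NW2_ok NW2_subs (show Emb NW2.m _ from he) (p := (.all 1 40 (.imp (.eq [7,6,4,7,5,6,3,4,7,5,6,5,3,4,3,1,40,7,6,4,7,5,6,3,4,7,5,6,5,3,4,3,1,40] [])
      (.imp (.eq [2,1,7,6,4,7,5,6,3,4,7,5,6,5,3,4,3,1,40] [7,6,4,7,5,6,3,4,7,5,6,5,3,4,3,1,40,2,1])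
      (.imp (.eq [7,6,4,7,5,6,3,4,7,5,6,5,3,4,3,1,40,3,7,6,4,7,5,6,3,4,7,5,6,5,3,4,3,1,40] [5]) (.eq
      [40] [])))))) (by decide +kernel)
  simp only [Fm.sem, wv_cons, wv_nil, one_mul, upd_apply, Nat.reduceEqDiff, ↓reduceIte, gNW_1, gNW_2, gNW_3, gNW_4, gNW_5, gNW_6, gNW_7, NW2_s0, NW2_s1, NW2_s2, NW2_s3, NW2_s4, NW2_s5, NW2_s6, NW2_s7, NW2_s8, exists_eq_right'] at this
  exact this

theorem W_p1 (he : Emb NW.m (gNW a1 b1 a2 b2 a3 b3 x)) :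
    ∀ g ∈ gen [a1 * b1, a2 * b2, a3 * b3, a2 * a3 * x * b1 * b2 * b3 * x * a1], g * a1 * a2 * b2 * a2 *
    a3 * b3 * a3 * x * b2 * a2 * b3 * a3 * x * b2 * b3 * x = a1 * a2 * b2 * a2 * a3 * b3 * a3 * x *
    b2 * a2 * b3 * a3 * x * b2 * b3 * x * g → g * g * g * g = 1 → g ∈ gen [a1 * b1 * a1 * x * b1 *
    b2 * b3 * x * b2 * b3, a1 * b1 * b2 * b3 * x * b1 * b2 * b3 * x * b1] := by
  have := PM.holds NW2_ok NW2_subs (show Emb NW2.m _ from he) (p := (.all 6 40 (.imp (.eq [7,6,4,7,5,6,3,4,7,5,6,5,3,4,3,1,40] [40,7,6,4,7,5,6,3,4,7,5,6,5,3,4,3,1])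
      (.imp (.eq [40,40,40,40] []) (.ex 7 41 (.eq [40] [41])))))) (by decide +kernel)
  simp only [Fm.sem, wv_cons, wv_nil, one_mul, upd_apply, Nat.reduceEqDiff, ↓reduceIte, gNW_1, gNW_2, gNW_3, gNW_4, gNW_5, gNW_6, gNW_7, NW2_s0, NW2_s1, NW2_s2, NW2_s3, NW2_s4, NW2_s5, NW2_s6, NW2_s7, NW2_s8, exists_eq_right'] at this
  exact this

theorem W_p2 (he : Emb NW.m (gNW a1 b1 a2 b2 a3 b3 x)) :
    ∀ g ∈ gen [a1 * b1, a2 * b2, a3 * b3, a1 * a2 * a3 * x * b1 * b2 * b3 * x], g * a1 * a2 * b2 * a2 *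
    a3 * b3 * a3 * x * b2 * a2 * b3 * a3 * x * b2 * b3 * x = a1 * a2 * b2 * a2 * a3 * b3 * a3 * x *
    b2 * a2 * b3 * a3 * x * b2 * b3 * x * g → g * g * g * g = 1 → g ∈ gen [a1 * b1 * a1 * b2 * b3 *
    x * b1 * b2 * b3 * x, a1 * b1 * x * b1 * b2 * b3 * x * b1 * b2 * b3] := by
  have := PM.holds NW2_ok NW2_subs (show Emb NW2.m _ from he) (p := (.all 5 40 (.imp (.eq [7,6,4,7,5,6,3,4,7,5,6,5,3,4,3,1,40] [40,7,6,4,7,5,6,3,4,7,5,6,5,3,4,3,1])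
      (.imp (.eq [40,40,40,40] []) (.ex 8 41 (.eq [40] [41])))))) (by decide +kernel)
  simp only [Fm.sem, wv_cons, wv_nil, one_mul, upd_apply, Nat.reduceEqDiff, ↓reduceIte, gNW_1, gNW_2, gNW_3, gNW_4, gNW_5, gNW_6, gNW_7, NW2_s0, NW2_s1, NW2_s2, NW2_s3, NW2_s4, NW2_s5, NW2_s6, NW2_s7, NW2_s8, exists_eq_right'] at this
  exact this

theorem W_q1 (he : Emb NW.m (gNW a1 b1 a2 b2 a3 b3 x)) :
    ∀ g ∈ gen [a1 * b1 * a1 * x * b1 * b2 * b3 * x * b2 * b3, a1 * b1 * b2 * b3 * x * b1 * b2 * b3 * x *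
    b1], g * a1 * a2 * b2 * a2 * a3 * b3 * a3 * x * b2 * a2 * b3 * a3 * x * b2 * b3 * x = a1 * a2 *
    b2 * a2 * a3 * b3 * a3 * x * b2 * a2 * b3 * a3 * x * b2 * b3 * x * g ∧ g * g * g * g = 1 ∧ g *
    a1 * b1 * b2 * a2 * b3 * a3 = a1 * b1 * b2 * a2 * b3 * a3 * g ∧ (g = 1 ∨ g = a1 * a2 * b2 * a2 *
    a3 * b3 * a3 * x * b2 * a2 * b3 * a3 * x * b2 * b3 * x ∨ g * g = a1 * a2 * b2 * a2 * a3 * b3 *
    a3 * x * b2 * a2 * b3 * a3 * x * b2 * b3 * x) ∧ (∀ h ∈ gen [a1 * b1 * a1 * b2 * b3 * x * b1 * b2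
    * b3 * x, a1 * b1 * x * b1 * b2 * b3 * x * b1 * b2 * b3], g * h = h * g) ∧ a2 * g * a2 * a1 * a2
    * b2 * a2 * a3 * b3 * a3 * x * b2 * a2 * b3 * a3 * x * b2 * b3 * x * a2 * g * a2 * a1 * a2 * b2
    * a2 * a3 * b3 * a3 * x * b2 * a2 * b3 * a3 * x * b2 * b3 * x * a2 = g * a2 * a1 * a2 * b2 * a2
    * a3 * b3 * a3 * x * b2 * a2 * b3 * a3 * x * b2 * b3 * x * a2 * g * a2 * a1 * a2 * b2 * a2 * a3
    * b3 * a3 * x * b2 * a2 * b3 * a3 * x * b2 * b3 * x * a2 * a2 := by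
  have := PM.holds NW2_ok NW2_subs (show Emb NW2.m _ from he) (p := (.all 7 40 (.and (.eq [7,6,4,7,5,6,3,4,7,5,6,5,3,4,3,1,40] [40,7,6,4,7,5,6,3,4,7,5,6,5,3,4,3,1])
      (.and (.eq [40,40,40,40] []) (.and (.eq [5,6,3,4,2,1,40] [40,5,6,3,4,2,1]) (.and (.or (.eq
      [40] []) (.or (.eq [40] [7,6,4,7,5,6,3,4,7,5,6,5,3,4,3,1]) (.eq [40,40]
      [7,6,4,7,5,6,3,4,7,5,6,5,3,4,3,1]))) (.and (.all 8 41 (.eq [41,40] [40,41])) (.eq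
      [3,7,6,4,7,5,6,3,4,7,5,6,5,3,4,3,1,3,40,3,7,6,4,7,5,6,3,4,7,5,6,5,3,4,3,1,3,40,3]
      [3,3,7,6,4,7,5,6,3,4,7,5,6,5,3,4,3,1,3,40,3,7,6,4,7,5,6,3,4,7,5,6,5,3,4,3,1,3,40])))))))) (by decide +kernel)
  simp only [Fm.sem, wv_cons, wv_nil, one_mul, upd_apply, Nat.reduceEqDiff, ↓reduceIte, gNW_1, gNW_2, gNW_3, gNW_4, gNW_5, gNW_6, gNW_7, NW2_s0, NW2_s1, NW2_s2, NW2_s3, NW2_s4, NW2_s5, NW2_s6, NW2_s7, NW2_s8, exists_eq_right'] at this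
  exact this

theorem W_q2 (he : Emb NW.m (gNW a1 b1 a2 b2 a3 b3 x)) :
    ∀ g ∈ gen [a1 * b1 * a1 * b2 * b3 * x * b1 * b2 * b3 * x, a1 * b1 * x * b1 * b2 * b3 * x * b1 * b2 *
    b3], g * a1 * a2 * b2 * a2 * a3 * b3 * a3 * x * b2 * a2 * b3 * a3 * x * b2 * b3 * x = a1 * a2 *
    b2 * a2 * a3 * b3 * a3 * x * b2 * a2 * b3 * a3 * x * b2 * b3 * x * g ∧ g * g * g * g = 1 ∧ g *
    a1 * b1 * a2 * b2 * a3 * b3 = a1 * b1 * a2 * b2 * a3 * b3 * g := by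
  have := PM.holds NW2_ok NW2_subs (show Emb NW2.m _ from he) (p := (.all 8 40 (.and (.eq [7,6,4,7,5,6,3,4,7,5,6,5,3,4,3,1,40] [40,7,6,4,7,5,6,3,4,7,5,6,5,3,4,3,1])
      (.and (.eq [40,40,40,40] []) (.eq [6,5,4,3,2,1,40] [40,6,5,4,3,2,1]))))) (by decide +kernel)
  simp only [Fm.sem, wv_cons, wv_nil, one_mul, upd_apply, Nat.reduceEqDiff, ↓reduceIte, gNW_1, gNW_2, gNW_3, gNW_4, gNW_5, gNW_6, gNW_7, NW2_s0, NW2_s1, NW2_s2, NW2_s3, NW2_s4, NW2_s5, NW2_s6, NW2_s7, NW2_s8, exists_eq_right'] at this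
  exact this

theorem W_rot (he : Emb NW.m (gNW a1 b1 a2 b2 a3 b3 x)) :
    ∀ y ∈ gen [a1 * b1 * a1 * x * b1 * b2 * b3 * x * b2 * b3, a1 * b1 * b2 * b3 * x * b1 * b2 * b3 * x *
    b1], y * y = a1 * a2 * b2 * a2 * a3 * b3 * a3 * x * b2 * a2 * b3 * a3 * x * b2 * b3 * x → (¬ y *
    a1 * b1 * y * b1 * a1 = a1 * b1 * y * b1 * a1 * y ∧ (∀ w ∈ gen [a1 * b1 * a1 * x * b1 * b2 * b3
    * x * b2 * b3, a1 * b1 * b2 * b3 * x * b1 * b2 * b3 * x * b1], w * w = a1 * a2 * b2 * a2 * a3 *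
    b3 * a3 * x * b2 * a2 * b3 * a3 * x * b2 * b3 * x → (y = w ∨ y = w * a1 * a2 * b2 * a2 * a3 * b3
    * a3 * x * b2 * a2 * b3 * a3 * x * b2 * b3 * x ∨ a1 * b1 * y * b1 * a1 = w ∨ a1 * b1 * y * b1 *
    a1 = w * a1 * a2 * b2 * a2 * a3 * b3 * a3 * x * b2 * a2 * b3 * a3 * x * b2 * b3 * x ∨ b1 * a1 *
    y * a1 * b1 = w ∨ b1 * a1 * y * a1 * b1 = w * a1 * a2 * b2 * a2 * a3 * b3 * a3 * x * b2 * a2 *
    b3 * a3 * x * b2 * b3 * x))) := by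
  have := PM.holds NW2_ok NW2_subs (show Emb NW2.m _ from he) (p := (.all 7 40 (.imp (.eq [40,40] [7,6,4,7,5,6,3,4,7,5,6,5,3,4,3,1]) (.and (.not (.eq [1,2,40,2,1,40]
      [40,1,2,40,2,1])) (.all 7 41 (.imp (.eq [41,41] [7,6,4,7,5,6,3,4,7,5,6,5,3,4,3,1]) (.or (.eq
      [40] [41]) (.or (.eq [40] [7,6,4,7,5,6,3,4,7,5,6,5,3,4,3,1,41]) (.or (.eq [1,2,40,2,1] [41])
      (.or (.eq [1,2,40,2,1] [7,6,4,7,5,6,3,4,7,5,6,5,3,4,3,1,41]) (.or (.eq [2,1,40,1,2] [41]) (.eq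
      [2,1,40,1,2] [7,6,4,7,5,6,3,4,7,5,6,5,3,4,3,1,41])))))))))))) (by decide +kernel)
  simp only [Fm.sem, wv_cons, wv_nil, one_mul, upd_apply, Nat.reduceEqDiff, ↓reduceIte, gNW_1, gNW_2, gNW_3, gNW_4, gNW_5, gNW_6, gNW_7, NW2_s0, NW2_s1, NW2_s2, NW2_s3, NW2_s4, NW2_s5, NW2_s6, NW2_s7, NW2_s8, exists_eq_right'] at this
  exact this

theorem W_b (he : Emb NW.m (gNW a1 b1 a2 b2 a3 b3 x)) :
    ∀ w ∈ gen [x, a1, b1, a2 * a3, b2 * b3], w * w = 1 → w * a1 * b1 * b2 * a2 * b3 * a3 * w * a3 * b3 *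
    a2 * b2 * b1 * a1 = a1 * a2 * b2 * a2 * a3 * b3 * a3 * x * b2 * a2 * b3 * a3 * x * b2 * b3 * x *
    a1 * b1 * b2 * a2 * b3 * a3 * w * a3 * b3 * a2 * b2 * b1 * a1 * w → (∃ k ∈ gen [x, a1, b1, a2 *
    a3, b2 * b3], k * a1 * x = w * k) := by
  have := PM.holds NW2_ok NW2_subs (show Emb NW2.m _ from he) (p := (.all 4 40 (.imp (.eq [40,40] []) (.imp (.eq [1,2,4,3,6,5,40,5,6,3,4,2,1,40]
      [40,1,2,4,3,6,5,40,5,6,3,4,2,1,7,6,4,7,5,6,3,4,7,5,6,5,3,4,3,1]) (.ex 4 41 (.eq [7,1,41]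
      [41,40])))))) (by decide +kernel)
  simp only [Fm.sem, wv_cons, wv_nil, one_mul, upd_apply, Nat.reduceEqDiff, ↓reduceIte, gNW_1, gNW_2, gNW_3, gNW_4, gNW_5, gNW_6, gNW_7, NW2_s0, NW2_s1, NW2_s2, NW2_s3, NW2_s4, NW2_s5, NW2_s6, NW2_s7, NW2_s8, exists_eq_right'] at this
  exact this

theorem W_cy (he : Emb NW.m (gNW a1 b1 a2 b2 a3 b3 x)) :
    a1 * b1 * a3 * x * b2 * a2 * b3 * x * b1 * a1 * b2 * x * b1 * b3 * x * b2 * a1 = a2 * a1 * b1 * a3 *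
    x * b2 * a2 * b3 * x * b1 * a1 * b2 * x * b1 * b3 * x * b2 ∧ a1 * b1 * a3 * x * b2 * a2 * b3 * x
    * b1 * a1 * b2 * x * b1 * b3 * x * b2 * b1 = b2 * a1 * b1 * a3 * x * b2 * a2 * b3 * x * b1 * a1
    * b2 * x * b1 * b3 * x * b2 ∧ a1 * b1 * a3 * x * b2 * a2 * b3 * x * b1 * a1 * b2 * x * b1 * b3 *
    x * b2 * a2 = a3 * a1 * b1 * a3 * x * b2 * a2 * b3 * x * b1 * a1 * b2 * x * b1 * b3 * x * b2 ∧
    a1 * b1 * a3 * x * b2 * a2 * b3 * x * b1 * a1 * b2 * x * b1 * b3 * x * b2 * b2 = b3 * a1 * b1 *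
    a3 * x * b2 * a2 * b3 * x * b1 * a1 * b2 * x * b1 * b3 * x * b2 ∧ a1 * b1 * a3 * x * b2 * a2 *
    b3 * x * b1 * a1 * b2 * x * b1 * b3 * x * b2 * a3 = a1 * a1 * b1 * a3 * x * b2 * a2 * b3 * x *
    b1 * a1 * b2 * x * b1 * b3 * x * b2 ∧ a1 * b1 * a3 * x * b2 * a2 * b3 * x * b1 * a1 * b2 * x *
    b1 * b3 * x * b2 * b3 = b1 * a1 * b1 * a3 * x * b2 * a2 * b3 * x * b1 * a1 * b2 * x * b1 * b3 *
    x * b2 ∧ a1 * b1 * a3 * x * b2 * a2 * b3 * x * b1 * a1 * b2 * x * b1 * b3 * x * b2 * a1 * b1 *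
    a3 * x * b2 * a2 * b3 * x * b1 * a1 * b2 * x * b1 * b3 * x * b2 * a1 * b1 * a3 * x * b2 * a2 *
    b3 * x * b1 * a1 * b2 * x * b1 * b3 * x * b2 = 1 ∧ b1 * a1 * x * b1 * a1 * b2 * b3 * x * b2 * b3
    * a1 * b1 * a2 * b2 * a3 * b3 = a1 * b1 * a2 * b2 * a3 * b3 * b1 * a1 * x * b1 * a1 * b2 * b3 *
    x * b2 * b3 ∧ b1 * a1 * x * b1 * a1 * b2 * b3 * x * b2 * b3 * a2 * b2 * b3 * a3 = a1 * b1 * a3 *
    x * b2 * a2 * b3 * x * b1 * a1 * b2 * x * b1 * b3 * x * b2 * b1 * a1 * x * b1 * a1 * b2 * b3 * x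
    * b2 * b3 ∧ b1 * a1 * x * b1 * a1 * b2 * b3 * x * b2 * b3 * a1 * b1 * a3 * x * b2 * a2 * b3 * x
    * b1 * a1 * b2 * x * b1 * b3 * x * b2 = a3 * b3 * b2 * a2 * b1 * a1 * x * b1 * a1 * b2 * b3 * x
    * b2 * b3 ∧ b1 * a1 * x * b1 * a1 * b2 * b3 * x * b2 * b3 * a1 = x * b1 * a1 * x * b1 * a1 * b2
    * b3 * x * b2 * b3 := by
  have := PM.holds NW2_ok NW2_subs (show Emb NW2.m _ from he) (p := (.and (.eq [1,4,7,6,2,7,4,1,2,7,6,3,4,7,5,2,1] [4,7,6,2,7,4,1,2,7,6,3,4,7,5,2,1,3]) (.and (.eq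
      [2,4,7,6,2,7,4,1,2,7,6,3,4,7,5,2,1] [4,7,6,2,7,4,1,2,7,6,3,4,7,5,2,1,4]) (.and (.eq
      [3,4,7,6,2,7,4,1,2,7,6,3,4,7,5,2,1] [4,7,6,2,7,4,1,2,7,6,3,4,7,5,2,1,5]) (.and (.eq
      [4,4,7,6,2,7,4,1,2,7,6,3,4,7,5,2,1] [4,7,6,2,7,4,1,2,7,6,3,4,7,5,2,1,6]) (.and (.eq
      [5,4,7,6,2,7,4,1,2,7,6,3,4,7,5,2,1] [4,7,6,2,7,4,1,2,7,6,3,4,7,5,2,1,1]) (.and (.eq
      [6,4,7,6,2,7,4,1,2,7,6,3,4,7,5,2,1] [4,7,6,2,7,4,1,2,7,6,3,4,7,5,2,1,2]) (.and (.eq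
      [4,7,6,2,7,4,1,2,7,6,3,4,7,5,2,1,4,7,6,2,7,4,1,2,7,6,3,4,7,5,2,1,4,7,6,2,7,4,1,2,7,6,3,4,7,5,2,1]
      []) (.and (.eq [6,5,4,3,2,1,6,4,7,6,4,1,2,7,1,2] [6,4,7,6,4,1,2,7,1,2,6,5,4,3,2,1]) (.and (.eq
      [5,6,4,3,6,4,7,6,4,1,2,7,1,2] [6,4,7,6,4,1,2,7,1,2,4,7,6,2,7,4,1,2,7,6,3,4,7,5,2,1]) (.and
      (.eq [4,7,6,2,7,4,1,2,7,6,3,4,7,5,2,1,6,4,7,6,4,1,2,7,1,2] [6,4,7,6,4,1,2,7,1,2,3,4,6,5]) (.eq
      [1,6,4,7,6,4,1,2,7,1,2] [6,4,7,6,4,1,2,7,1,2,7])))))))))))) (by decide +kernel)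
  simp only [Fm.sem, wv_cons, wv_nil, one_mul, upd_apply, Nat.reduceEqDiff, ↓reduceIte, gNW_1, gNW_2, gNW_3, gNW_4, gNW_5, gNW_6, gNW_7, NW2_s0, NW2_s1, NW2_s2, NW2_s3, NW2_s4, NW2_s5, NW2_s6, NW2_s7, NW2_s8, exists_eq_right'] at this
  exact this

theorem W_inv (he : Emb NW.m (gNW a1 b1 a2 b2 a3 b3 x)) :
    a1 * a1 = 1 ∧ b1 * b1 = 1 ∧ a2 * a2 = 1 ∧ b2 * b2 = 1 ∧ a3 * a3 = 1 ∧ b3 * b3 = 1 ∧ x * x = 1 := by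
  have := PM.holds NW2_ok NW2_subs (show Emb NW2.m _ from he) (p := (.and (.eq [1,1] []) (.and (.eq [2,2] []) (.and (.eq [3,3] []) (.and (.eq [4,4] []) (.and (.eq [5,5]
      []) (.and (.eq [6,6] []) (.eq [7,7] [])))))))) (by decide +kernel)
  simp only [Fm.sem, wv_cons, wv_nil, one_mul, upd_apply, Nat.reduceEqDiff, ↓reduceIte, gNW_1, gNW_2, gNW_3, gNW_4, gNW_5, gNW_6, gNW_7, NW2_s0, NW2_s1, NW2_s2, NW2_s3, NW2_s4, NW2_s5, NW2_s6, NW2_s7, NW2_s8, exists_eq_right'] at this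
  exact this

theorem W_ab (he : Emb NW.m (gNW a1 b1 a2 b2 a3 b3 x)) :
    ¬ a1 = 1 ∧ a1 * b1 * a1 = b1 * a1 * b1 ∧ ¬ a1 = b1 ∧ a1 * a2 = a2 * a1 := by
  have := PM.holds NW2_ok NW2_subs (show Emb NW2.m _ from he) (p := (.and (.not (.eq [1] [])) (.and (.eq [1,2,1] [2,1,2]) (.and (.not (.eq [1] [2])) (.eq [3,1]
      [1,3]))))) (by decide +kernel)
  simp only [Fm.sem, wv_cons, wv_nil, one_mul, upd_apply, Nat.reduceEqDiff, ↓reduceIte, gNW_1, gNW_2, gNW_3, gNW_4, gNW_5, gNW_6, gNW_7, NW2_s0, NW2_s1, NW2_s2, NW2_s3, NW2_s4, NW2_s5, NW2_s6, NW2_s7, NW2_s8, exists_eq_right'] at this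
  exact this

theorem W_j (he : Emb NW.m (gNW a1 b1 a2 b2 a3 b3 x)) :
    ∀ t ∈ gen [a1 * b1, a2 * b2, a3 * b3], t = 1 ∨ (a1 * t * a1 * t * t = a1 * b1 ∨ a1 * t * a1 * t * t
    = a1 * b1 * a1 * b1) ∨ (a2 * t * a2 * t * t = a2 * b2 ∨ a2 * t * a2 * t * t = a2 * b2 * a2 * b2)
    ∨ a3 * t * a3 * t * t = a3 * b3 ∨ a3 * t * a3 * t * t = a3 * b3 * a3 * b3 := by
  have := PM.holds NW2_ok NW2_subs (show Emb NW2.m _ from he) (p := (.all 2 40 (.or (.eq [40] []) (.or (.or (.eq [40,40,1,40,1] [2,1]) (.eq [40,40,1,40,1] [2,1,2,1]))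
      (.or (.or (.eq [40,40,3,40,3] [4,3]) (.eq [40,40,3,40,3] [4,3,4,3])) (.or (.eq [40,40,5,40,5]
      [6,5]) (.eq [40,40,5,40,5] [6,5,6,5]))))))) (by decide +kernel)
  simp only [Fm.sem, wv_cons, wv_nil, one_mul, upd_apply, Nat.reduceEqDiff, ↓reduceIte, gNW_1, gNW_2, gNW_3, gNW_4, gNW_5, gNW_6, gNW_7, NW2_s0, NW2_s1, NW2_s2, NW2_s3, NW2_s4, NW2_s5, NW2_s6, NW2_s7, NW2_s8, exists_eq_right'] at this
  exact this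

end Cfsg.Lib.F43
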